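import Cfsg.Agent.TH.Uni
import Cfsg.Agent.TH.Cl.Defs
import Cfsg.Agent.TH.GenLin
import Cfsg.Agent.TH.GenSig
import Cfsg.Agent.TH.Alt.Gen

/-!
# S3541: the numerical sieve, interface (captain helper73)

`N = |T|`, `a = |H ⊓ T|`, `o = |G : T|`, `d` the subdegree; `h = a o = |H|`, `n = N / a` the degree, `m = h / d`.
`cG`, `cA` are lower bounds for the `T`-classes of the non-trivial elements of `H`, of `H ⊓ T`; `cS s` is a lower bound for
the index in `T` of the normalisers of the non-trivial `s`-subgroups of `H` (any of them may be `0`; all of them may be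
the least index of a proper subgroup of `T`).
-/

set_option autoImplicit false

namespace Cfsg.Agent.TH.Sv

/-- the Gaussian binomial coefficient: a group of order `s ^ b` has at most `gb s b a` subgroups of order `s ^ a` -/
def gb (s : ℕ) : ℕ → ℕ → ℕ
  | _, 0 => 1
  | 0, _ + 1 => 0
  | b + 1, a + 1 => gb s b a + s ^ (a + 1) * gb s b (a + 1)

/-- `ν s` is a possible number of Sylow `s`-subgroups of a group of order `h` -/
def SylNum (h : ℕ) (ν : ℕ → ℕ) : Prop := ∀ s, s.Prime → ν s ∣ h / s ^ h.factorization s ∧ ν s % s = 1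

/-- the necessary numerical conditions -/
structure Nec (N a o d cG cA : ℕ) (cS : ℕ → ℕ) : Prop where
  a_dvd : a ∣ N
  d_dvd : d ∣ a * o
  d_dvd' : d ∣ N / a - 1
  two_le : 2 ≤ d
  two_mul : 2 * d ≤ N / a - 1
  m_le : 2 ≤ a * o / d
  gcd : Nat.gcd a d ≠ 1
  even : 2 ∣ N / a * d
  prime_le : ∀ s, s.Prime → s ∣ a * o → s ≤ d
  sigG : (a * o / d - 1) * cG ≤ (a * o - 1) ^ 2
  sigA : (a / Nat.gcd a d - 1) * cA ≤ (a - 1) ^ 2
  sigA' : (a * o / d / Nat.gcd (a * o / d) o - 1) * cA ≤ (a - 1) ^ 2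
  sylA : ∃ ν, SylNum a ν ∧ ∀ s, s.Prime → s ∣ a → ¬ s ∣ d → cS s ≤ ν s * min (ν s) (Nat.gcd a d)
  lin : ∃ (ν : ℕ → ℕ) (r : ℕ), SylNum (a * o) ν ∧
    (∀ s, s.Prime → s ∣ a * o → ¬ s ∣ d → cS s ≤ ν s * min (ν s) d ∧ N / a - 1 ≤ d * (r - 1) ∧
      r ≤ d * ∏ t ∈ (a * o / d).primeFactors.erase s, gb t ((a * o).factorization t) ((a * o / d).factorization t) * ν t) ∧
    r ≤ ∏ t ∈ (a * o / d).primeFactors, gb t ((a * o).factorization t) ((a * o / d).factorization t) * ν t ∧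
    N / a - 1 ≤ r * (r - 1)

/-- [SV] the conditions hold in every example -/
def BoxNec : Prop := ∀ (G : Type) [Group G] [Finite G] (T H : Subgroup G) (m cG cA : ℕ) (cS : ℕ → ℕ), AS T → Half H m →
  (∀ x ∈ H, x ≠ 1 → cG ≤ (Subgroup.centralizer {x}).relIndex T) →
  (∀ x ∈ H ⊓ T, x ≠ 1 → cA ≤ (Subgroup.centralizer {x}).relIndex T) →
  (∀ s, s.Prime → ∀ P : Subgroup G, P ≤ H → P ≠ ⊥ → IsPGroup s P → cS s ≤ (Subgroup.normalizer (P : Set G)).relIndex T) →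
  Nec (Nat.card T) (Nat.card ↥(H ⊓ T)) T.index (Nat.card H / m) cG cA cS

/-- [SV-El] an `s`-element `x` of `B ⊴ M ⊴ H`, `s ∤ d` : `|x^T| ≤ min (gcd(|B|, d), |x^B|) |x^T ∩ H|` -/
def BoxEl : Prop := ∀ (G : Type) [Group G] [Finite G] (T H M B : Subgroup G) (m s k : ℕ) (x : G), AS T → Half H m →
  s.Prime → ¬ s ∣ Nat.card H / m → M ≤ H → (∀ a ∈ H, ∀ y ∈ M, a * y * a⁻¹ ∈ M) → B ≤ M →
  (∀ a ∈ M, ∀ y ∈ B, a * y * a⁻¹ ∈ B) → x ∈ B → orderOf x = s ^ k →
  (Subgroup.centralizer {x}).relIndex T ≤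
    min (Nat.gcd (Nat.card B) (Nat.card H / m)) ((Subgroup.centralizer {x}).relIndex B) * (clsIn T H x).ncard

/-- [SV-E] the socle `N` of `H ⊓ T` : for every other point the index `e` of its stabiliser in `N` satisfies
`1 < e`, `e ∣ d`, `d ∣ e |H : N|` -/
def BoxE : Prop := AllK → ∀ (G : Type) [Group G] [Finite G] (T H N : Subgroup G) (m : ℕ), AS T → Half H m → Sim T H N →
  ∀ g, g ∉ H → 1 < (cj g H).relIndex N ∧ (cj g H).relIndex N ∣ Nat.card H / m ∧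
    Nat.card H / m ∣ (cj g H).relIndex N * N.relIndex H

/-- [SV-Cnt] if the stabiliser in `N ⊴ H` of every other point determines its stabiliser in `H` (for instance as its
normaliser), the degree is at most the square of the number of these subgroups of `N` -/
def BoxCnt : Prop := ∀ (G : Type) [Group G] [Finite G] (H N : Subgroup G) (m : ℕ) (𝓤 : Set (Subgroup G)), Half H m → N ≤ H →
  (∀ a ∈ H, ∀ y ∈ N, a * y * a⁻¹ ∈ N) → (∀ g, g ∉ H → N ⊓ cj g H ∈ 𝓤) →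
  (∀ U ∈ 𝓤, Nat.card ↥(H ⊓ Subgroup.normalizer (U : Set G)) ≤ m) → H.index ≤ 𝓤.ncard ^ 2

/-- [SV-Lin2] small `H ⊓ T` : most two point stabilisers meet `T` trivially -/
def BoxLin2 : Prop := ∀ (G : Type) [Group G] [Finite G] (T H : Subgroup G) (m c g : ℕ), AS T → Half H m →
  (∀ x ∈ H ⊓ T, x ≠ 1 → c ≤ (Subgroup.centralizer {x}).relIndex T) → 4 * Nat.card ↥(H ⊓ T) ^ 2 ≤ c →
  (∀ K : Subgroup G, K ⊓ T = ⊥ → ∃ s : Fin g → G, Subgroup.closure (Set.range s) = K) →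
  Nat.card ↥(H ⊓ T) ∣ Nat.card H / m ∧ m ∣ T.index ∧ H.index ≤ 3 * Nat.card H ^ (2 * g)

/-- the conjugates of `Y` inside `H` -/
def cjIn {G : Type*} [Group G] (H Y : Subgroup G) : Set (Subgroup G) := {Z | Z ≤ H ∧ ∃ g, Z = cj g Y}

/-- [SV-Sq] `W` is a set of pairs of conjugates of `Y` in `H` without a common fixed point other than the base point
(use with `index_sub_one_le`) -/
def BoxSq : Prop := ∀ (G : Type) [Group G] [Finite G] (H Y : Subgroup G) (W : Set (Subgroup G × Subgroup G)),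
  Subgroup.normalizer (H : Set G) = H →
  (∀ w ∈ W, w.1 ∈ cjIn H Y ∧ w.2 ∈ cjIn H Y ∧ ∀ g, w.1 ≤ cj g H → w.2 ≤ cj g H → g ∈ H) →
  Nat.card (MulAction.fixedPoints Y (G ⧸ H)) ^ 2 * W.ncard ≤ H.index * (cjIn H Y).ncard ^ 2

end Cfsg.Agent.TH.Sv
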