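import Cfsg.Agent.TH.Sv.Chk

/-!
# S3541: the numerical sieve applied to an example (helper74)

With `a = |H ⊓ T|`, `o = |G : T|`, `d = |H| / m` :
* `false_of_sieve` : `sieve N p outT c NB low = true` is contradictory;
* `flt_of_sieveF` : `sieveF N p outT c NB low flt = true` gives `flt a o d = false` (survivors: `flt a o d = false`);
* `flt_of_sieveE` : the same with the condition `l ≤ gcd d e` built in;
* `false_of_sieveG` : the general form (separate bounds, known bounds for the numbers of Sylow subgroups).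
-/

set_option autoImplicit false

namespace Cfsg.Agent.TH.Sv

variable {G : Type} [Group G] [Finite G] {T H : Subgroup G} {m : ℕ}

omit [Finite G] in
theorem le_relIndex {c : ℕ} (hc : ∀ M : Subgroup T, M ≠ ⊤ → c ≤ M.index) {M : Subgroup G} (hM : ¬ T ≤ M) :
    c ≤ M.relIndex T := hc _ fun h => hM (Subgroup.subgroupOf_eq_top.1 h)

omit [Finite G] in
theorem not_le_centralizer (hT : AS T) {x : G} (hx : x ≠ 1) : ¬ T ≤ Subgroup.centralizer {x} := fun h => by
  have h1 : x ∈ Subgroup.centralizer (T : Set G) := fun t ht => Subgroup.mem_centralizer_singleton_iff.1 (h ht)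
  rw [hT.cent, Subgroup.mem_bot] at h1
  exact hx h1

theorem not_le_normalizer (hT : AS T) (hH : Half H m) {P : Subgroup G} (hP : P ≤ H) (h0 : P ≠ ⊥) :
    ¬ T ≤ Subgroup.normalizer (P : Set G) := fun h => by
  have := hT.simple
  have h1 : (P.subgroupOf T).Normal := ⟨fun x hx t => (Subgroup.mem_normalizer_iff.1 (h t.2) x).1 hx⟩
  rcases h1.eq_bot_or_eq_top with h2 | h2
  · obtain ⟨x, hx, hx1⟩ := (Subgroup.bot_or_exists_ne_one P).resolve_left h0
    refine not_le_centralizer hT hx1 fun t ht => Subgroup.mem_centralizer_singleton_iff.2 ?_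
    have h3 : t * x * t⁻¹ * x⁻¹ ∈ T := by
      have := T.mul_mem ht (hT.normal.conj_mem _ (T.inv_mem ht) x)
      simpa [mul_assoc] using this
    have h4 : (⟨_, h3⟩ : T) ∈ P.subgroupOf T :=
      P.mul_mem ((Subgroup.mem_normalizer_iff.1 (h ht) x).1 hx) (P.inv_mem hx)
    rw [h2, Subgroup.mem_bot, Subtype.ext_iff] at h4
    have h5 : t * x * t⁻¹ * x⁻¹ = 1 := h4
    calc t * x = t * x * t⁻¹ * x⁻¹ * (x * t) := by group
      _ = x * t := by rw [h5, one_mul]
  · exact hT.not_le hH ((Subgroup.subgroupOf_eq_top.1 h2).trans hP)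

theorem card_div_eq (hT : AS T) (hH : Half H m) : Nat.card T / Nat.card ↥(H ⊓ T) = H.index := by
  rw [← hT.card_inf_mul hH, Nat.mul_div_cancel_left _ Nat.card_pos]

theorem le_index (hT : AS T) (hH : Half H m) {c : ℕ} (hc : ∀ M : Subgroup T, M ≠ ⊤ → c ≤ M.index) : c ≤ H.index :=
  hT.relIndex_eq hH ▸ le_relIndex hc (hT.not_le hH)

/-- the conditions with the least index of a proper subgroup of the socle -/
theorem BoxNec.nec (hb : BoxNec) (hT : AS T) (hH : Half H m) {c : ℕ} (hc : ∀ M : Subgroup T, M ≠ ⊤ → c ≤ M.index) :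
    Nec (Nat.card T) (Nat.card ↥(H ⊓ T)) T.index (Nat.card H / m) c c fun _ => c :=
  hb G T H m c c _ hT hH (fun _ _ hx => le_relIndex hc (not_le_centralizer hT hx))
    (fun _ _ hx => le_relIndex hc (not_le_centralizer hT hx))
    fun _ _ _ hP h0 _ => le_relIndex hc (not_le_normalizer hT hH hP h0)

/-- the general form -/
theorem false_of_sieveG (hb : BoxNecX) (hT : AS T) (hH : Half H m) (P : Par) (hs : sieveG P = true)
    {a o : ℕ} (ha : Nat.card ↥(H ⊓ T) = a) (ho : T.index = o)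
    (hN : Nat.card T = P.N) (hp : P.p ∣ H.index) (hout : o ∣ P.outT) (hc : P.c ≤ H.index) (hNB : a ∣ P.NB)
    (hlow : P.low ∣ a)
    (hG : ∀ x ∈ H, x ≠ 1 → P.cG a o ≤ (Subgroup.centralizer {x}).relIndex T)
    (hA : ∀ x ∈ H ⊓ T, x ≠ 1 → P.cA a o ≤ (Subgroup.centralizer {x}).relIndex T)
    (hS : ∀ s, s.Prime → ∀ Q : Subgroup G, Q ≤ H → Q ≠ ⊥ → IsPGroup s Q →
      P.cS a o s ≤ (Subgroup.normalizer (Q : Set G)).relIndex T)
    (huA : ∀ s, s.Prime → s ∣ a → P.uA a o s ≠ 0 → Nat.card (Sylow s ↥(H ⊓ T)) ≤ P.uA a o s)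
    (huH : ∀ s, s.Prime → s ∣ a * o → P.uH a o s ≠ 0 → Nat.card (Sylow s H) ≤ P.uH a o s)
    (hfa : P.fa a (H.index - 1) = true) (hflt : P.flt a o (Nat.card H / m) = true) : False := by
  have h1 := hb G T H m _ _ _ hT hH hG hA hS
  have h2 := card_div_eq hT hH
  rw [hN, ha] at h2
  rw [hN, ha, ho] at h1
  exact sieveG_sound P hs h1 (h2 ▸ hp) hout (h2 ▸ hc) hNB hlow huA huH (h2 ▸ hfa) hflt

/-- the form with separate bounds and without bounds for the numbers of Sylow subgroups -/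
def sieveC (N p outT c NB low cG cA : ℕ) (cS : ℕ → ℕ) (flt : ℕ → ℕ → ℕ → Bool) : Bool :=
  frc cG fun cG => frc cA fun cA =>
  sieveG { N, p, outT, c, NB, low, flt, cG := fun _ _ => cG, cA := fun _ _ => cA, cS := fun _ _ => cS }

theorem flt_of_sieveC (hb : BoxNec) (hT : AS T) (hH : Half H m) {N p outT c NB low cG cA : ℕ} {cS : ℕ → ℕ}
    {flt : ℕ → ℕ → ℕ → Bool} (hs : sieveC N p outT c NB low cG cA cS flt = true)
    (hN : Nat.card T = N) (hp : p ∣ H.index) (hout : T.index ∣ outT) (hc : c ≤ H.index) (hNB : Nat.card ↥(H ⊓ T) ∣ NB)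
    (hlow : low ∣ Nat.card ↥(H ⊓ T))
    (hG : ∀ x ∈ H, x ≠ 1 → cG ≤ (Subgroup.centralizer {x}).relIndex T)
    (hA : ∀ x ∈ H ⊓ T, x ≠ 1 → cA ≤ (Subgroup.centralizer {x}).relIndex T)
    (hS : ∀ s, s.Prime → ∀ Q : Subgroup G, Q ≤ H → Q ≠ ⊥ → IsPGroup s Q →
      cS s ≤ (Subgroup.normalizer (Q : Set G)).relIndex T) :
    flt (Nat.card ↥(H ⊓ T)) T.index (Nat.card H / m) = false := by
  obtain ⟨νA, νH, h1⟩ := (hb G T H m _ _ _ hT hH hG hA hS).necX
  have h2 := card_div_eq hT hH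
  rw [hN] at h1 h2
  rw [sieveC, frc_eq, frc_eq] at hs
  rw [← Bool.not_eq_true]
  exact fun h => sieveG_sound _ hs h1 (h2 ▸ hp) hout (h2 ▸ hc) hNB hlow (fun _ _ _ h => absurd rfl h)
    (fun _ _ _ h => absurd rfl h) rfl h

/-- one bound `c` (the least index), a filter `flt`, and the condition `l ≤ gcd d e` -/
def sieveE (N p outT c NB low e l : ℕ) (flt : ℕ → ℕ → ℕ → Bool) : Bool :=
  frc c fun c => frc e fun e => frc l fun l =>
  sieveG { N, p, outT, c, NB, low, fa := fun _ n1 => Nat.ble l (Nat.gcd n1 e),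
           flt := fun a o d => Nat.ble l (Nat.gcd d e) && flt a o d }

theorem flt_of_sieveE (hb : BoxNec) (hT : AS T) (hH : Half H m) {N p outT c NB low e l : ℕ}
    {flt : ℕ → ℕ → ℕ → Bool} (hs : sieveE N p outT c NB low e l flt = true)
    (hN : Nat.card T = N) (hp : p ∣ H.index) (hout : T.index ∣ outT) (hc : ∀ M : Subgroup T, M ≠ ⊤ → c ≤ M.index)
    (hNB : Nat.card ↥(H ⊓ T) ∣ NB) (hlow : low ∣ Nat.card ↥(H ⊓ T)) (hl : l ≤ Nat.gcd (Nat.card H / m) e) :
    flt (Nat.card ↥(H ⊓ T)) T.index (Nat.card H / m) = false := by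
  obtain ⟨νA, νH, h1⟩ := (hb.nec hT hH hc).necX
  have h2 := card_div_eq hT hH
  rw [hN] at h1 h2
  rw [sieveE, frc_eq, frc_eq, frc_eq] at hs
  rw [← Bool.not_eq_true]
  have h3 : l ≤ Nat.gcd (N / Nat.card ↥(H ⊓ T) - 1) e := by
    refine hl.trans (Nat.le_of_dvd (Nat.gcd_pos_of_pos_left _ ?_) (Nat.gcd_dvd_gcd_of_dvd_left _ h1.d_dvd'))
    have := h1.two_le
    have := h1.two_mul
    omega
  exact fun h => sieveG_sound _ hs h1 (h2 ▸ hp) hout (h2 ▸ le_index hT hH hc) hNB hlow (fun _ _ _ h => absurd rfl h)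
    (fun _ _ _ h => absurd rfl h) (Nat.ble_eq_true_of_le h3) (Bool.and_eq_true_iff.2 ⟨Nat.ble_eq_true_of_le hl, h⟩)

/-- one bound `c` (the least index) and a filter `flt` -/
def sieveF (N p outT c NB low : ℕ) (flt : ℕ → ℕ → ℕ → Bool) : Bool := sieveE N p outT c NB low 0 0 flt

theorem flt_of_sieveF (hb : BoxNec) (hT : AS T) (hH : Half H m) {N p outT c NB low : ℕ}
    {flt : ℕ → ℕ → ℕ → Bool} (hs : sieveF N p outT c NB low flt = true)
    (hN : Nat.card T = N) (hp : p ∣ H.index) (hout : T.index ∣ outT) (hc : ∀ M : Subgroup T, M ≠ ⊤ → c ≤ M.index)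
    (hNB : Nat.card ↥(H ⊓ T) ∣ NB) (hlow : low ∣ Nat.card ↥(H ⊓ T)) :
    flt (Nat.card ↥(H ⊓ T)) T.index (Nat.card H / m) = false :=
  flt_of_sieveE hb hT hH hs hN hp hout hc hNB hlow (Nat.zero_le _)

/-- the plain sieve -/
def sieve (N p outT c NB low : ℕ) : Bool := sieveF N p outT c NB low fun _ _ _ => true

theorem false_of_sieve (hb : BoxNec) (hT : AS T) (hH : Half H m) {N p outT c NB low : ℕ}
    (hs : sieve N p outT c NB low = true)
    (hN : Nat.card T = N) (hp : p ∣ H.index) (hout : T.index ∣ outT) (hc : ∀ M : Subgroup T, M ≠ ⊤ → c ≤ M.index)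
    (hNB : Nat.card ↥(H ⊓ T) ∣ NB) (hlow : low ∣ Nat.card ↥(H ⊓ T)) : False :=
  Bool.false_ne_true (flt_of_sieveF hb hT hH hs hN hp hout hc hNB hlow).symm

/-- the filter for a list of survivors `(a, o, d)` -/
def notIn (L : List (ℕ × ℕ × ℕ)) (a o d : ℕ) : Bool :=
  List.rec (motive := fun _ => Bool) true
    (fun x _ ih => !(Nat.beq x.1 a && (Nat.beq x.2.1 o && Nat.beq x.2.2 d)) && ih) L

theorem mem_of_notIn {L : List (ℕ × ℕ × ℕ)} {a o d : ℕ} (h : notIn L a o d = false) : (a, o, d) ∈ L := by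
  induction L with
  | nil => exact absurd h.symm Bool.false_ne_true
  | cons x L ih =>
    have h1 : (!(Nat.beq x.1 a && (Nat.beq x.2.1 o && Nat.beq x.2.2 d)) && notIn L a o d) = false := h
    rw [Bool.and_eq_false_iff, Bool.not_eq_false', Bool.and_eq_true, Bool.and_eq_true, Nat.beq_eq, Nat.beq_eq,
      Nat.beq_eq] at h1
    rcases h1 with ⟨rfl, rfl, rfl⟩ | h1
    · exact List.mem_cons_self
    · exact List.mem_cons_of_mem _ (ih h1)

/-- the filter for a list of surviving pairs `(a, d)` -/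
def notIn2 (L : List (ℕ × ℕ)) (a _o d : ℕ) : Bool :=
  List.rec (motive := fun _ => Bool) true (fun x _ ih => !(Nat.beq x.1 a && Nat.beq x.2 d) && ih) L

theorem mem_of_notIn2 {L : List (ℕ × ℕ)} {a o d : ℕ} (h : notIn2 L a o d = false) : (a, d) ∈ L := by
  induction L with
  | nil => exact absurd h.symm Bool.false_ne_true
  | cons x L ih =>
    have h1 : (!(Nat.beq x.1 a && Nat.beq x.2 d) && notIn2 L a o d) = false := h
    rw [Bool.and_eq_false_iff, Bool.not_eq_false', Bool.and_eq_true, Nat.beq_eq, Nat.beq_eq] at h1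
    rcases h1 with ⟨rfl, rfl⟩ | h1
    · exact List.mem_cons_self
    · exact List.mem_cons_of_mem _ (ih h1)

/-- an example: `Sp₂(2) ≀ S₃` in `Sp₆(2)` -/
example : sieveF 1451520 2 1 28 1296 1 (notIn [(1296, 1, 3)]) = true := by decide +kernel

end Cfsg.Agent.TH.Sv
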