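import Cfsg.Agent.TH.Sv.Cnt
import Cfsg.Agent.TH.Sv.Sieve
import Cfsg.Agent.S0205

/-!
# S3541: the numerical sieve, the necessary conditions (helper74)

`boxNecX`, `boxNec`, `boxEl`, `boxSq`, `boxCnt`.
-/

set_option autoImplicit false
set_option linter.unusedSectionVars false

namespace Cfsg.Agent.TH.Sv

open MulAction Own

section

variable {G : Type*} [Group G] [Finite G] {T H : Subgroup G} {m : ℕ}

theorem mem_Fx_coe {Y : Subgroup G} {g : G} : (g : G ⧸ H) ∈ (Fx Y : Set (G ⧸ H)) ↔ Y ≤ cj g H := by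
  rw [mem_Fx, stabilizer_coe]

theorem Fx_eq (Y : Subgroup G) : (Fx Y : Set (G ⧸ H)) = fixedPoints Y (G ⧸ H) := by
  ext β
  induction β using QuotientGroup.induction_on with
  | _ g => rw [mem_Fx_coe, mem_fixedPoints_coe]

theorem fix_eq (x : G) : fix H x = (Fx (Subgroup.zpowers x) : Set (G ⧸ H)).ncard := by
  rw [fix, Nat.card_coe_set_eq]
  congr 1
  ext β
  rw [mem_Fx, Subgroup.zpowers_le]
  rfl

theorem one_mem_Fx {Y : Subgroup G} (h : Y ≤ H) : ((1 : G) : G ⧸ H) ∈ (Fx Y : Set (G ⧸ H)) :=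
  mem_Fx_coe.2 (by rwa [cj_one])

theorem nS_eq (L X : Subgroup G) : nS L X = (Subgroup.normalizer (X : Set G)).relIndex L := by
  have h1 := card_mul_relIndex (inf_le_left : L ⊓ Subgroup.normalizer (X : Set G) ≤ L)
  rw [Subgroup.inf_relIndex_left, ← nS_mul L X, mul_comm] at h1
  exact (Nat.eq_of_mul_eq_mul_right Nat.card_pos h1).symm

theorem ncard_Orb_coe (L : Subgroup G) (g : G) : (Orb L (g : G ⧸ H)).ncard = (cj g H).relIndex L := by
  have h1 := card_mul_relIndex (inf_le_left : L ⊓ cj g H ≤ L)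
  rw [Subgroup.inf_relIndex_left, ← ncard_Orb_mul L (g : G ⧸ H), stabilizer_coe, mul_comm] at h1
  exact (Nat.eq_of_mul_eq_mul_right Nat.card_pos h1).symm

/-- every point is fixed by a `B`-conjugate of `Y` : the bound by the number of conjugates -/
theorem n_le_conj {B Y : Subgroup G} (hY : Y ≤ H) (hB : B ≤ H) (h : ∀ g, g ∉ H → ∃ b ∈ B, cj b Y ≤ cj g H) :
    H.index - 1 ≤ nS B Y * ((Fx Y : Set (G ⧸ H)).ncard - 1) := by
  rw [← Gen.ncard_compl]
  refine cover_le (Set.toFinite _) (Set.toFinite _) (fun (β : G ⧸ H) Z => β ∈ Fx Z) (fun β hβ => ?_) ?_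
  · induction β using QuotientGroup.induction_on with
    | _ g =>
    obtain ⟨b, hb, h1⟩ := h g (Gen.mk_ne_one.1 hβ)
    exact ⟨_, ⟨b, hb, rfl⟩, mem_Fx_coe.2 h1⟩
  · rintro _ ⟨b, hb, rfl⟩
    rw [← ncard_Fx_cj b Y, ← Set.ncard_sdiff_singleton_of_mem
      (one_mem_Fx ((cj_mono b hY).trans (cj_of_mem (hB hb)).le))]
    exact Set.ncard_le_ncard fun β hβ => ⟨hβ.2, hβ.1⟩

/-- every point is fixed by a `B`-conjugate of `Y` : the bound by the orbit lengths -/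
theorem n_le_orb {B Y : Subgroup G} (hY : Y ≤ H) (hB : B ≤ H) (h : ∀ g, g ∉ H → ∃ b ∈ B, cj b Y ≤ cj g H) {μ : ℕ}
    (hμ : ∀ g, g ∉ H → (cj g H).relIndex B ≤ μ) : H.index - 1 ≤ μ * ((Fx Y : Set (G ⧸ H)).ncard - 1) := by
  rw [← Gen.ncard_compl, mul_comm, ← Set.ncard_sdiff_singleton_of_mem (one_mem_Fx hY)]
  refine cover_le (Set.toFinite _) (Set.toFinite _) (fun (β γ : G ⧸ H) => β ∈ Orb B γ) (fun β hβ => ?_) fun γ hγ => ?_
  · induction β using QuotientGroup.induction_on with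
    | _ g =>
    have hg := Gen.mk_ne_one.1 hβ
    obtain ⟨b, hb, h1⟩ := h g hg
    refine ⟨((b⁻¹ * g : G) : G ⧸ H), ⟨mem_Fx_coe.2 (by rw [cj_mul]; exact (cj_le_iff b).1 h1),
      Gen.mk_ne_one.2 fun h2 => hg ((mul_mem_cancel_left (inv_mem (hB hb))).1 h2)⟩, b, hb, ?_⟩
    rw [MulAction.Quotient.smul_mk, smul_eq_mul, mul_inv_cancel_left]
  · induction γ using QuotientGroup.induction_on with
    | _ g =>
    refine le_trans ?_ (hμ g (Gen.mk_ne_one.1 hγ.2))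
    rw [← ncard_Orb_coe]
    exact Set.ncard_le_ncard fun β hβ => hβ.2

/-- the double count of the pairs (conjugate of `Y`, fixed point) -/
theorem nS_mul_fix (hT : ∀ g, ∃ t ∈ T, cj g H = cj t H) (Y : Subgroup G) :
    nS T Y * (Fx Y : Set (G ⧸ H)).ncard ≤ H.index * {Z ∈ Cjs T Y | Z ≤ H}.ncard := by
  rw [show H.index = (Set.univ : Set (G ⧸ H)).ncard from (Set.ncard_univ _).symm]
  refine dc_le (Set.toFinite _) (Set.toFinite _) (fun Z (β : G ⧸ H) => β ∈ Fx Z) ?_ fun β _ => ?_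
  · rintro _ ⟨t, -, rfl⟩
    rw [← ncard_Fx_cj t Y]
    exact Set.ncard_le_ncard fun β hβ => ⟨trivial, hβ⟩
  · induction β using QuotientGroup.induction_on with
    | _ g =>
    obtain ⟨t, ht, h1⟩ := hT g
    refine Set.ncard_le_ncard_of_injOn (cj t⁻¹) (fun Z hZ => ⟨cj_mem_Cjs (inv_mem ht) hZ.1, ?_⟩)
      fun _ _ _ _ h => cj_inj _ h
    rw [cj_le_iff, inv_inv, ← h1]
    exact mem_Fx_coe.1 hZ.2

theorem arith_le {c f n k μ : ℕ} (hn : 2 ≤ n) (h1 : c * f ≤ n * k) (h2 : n - 1 ≤ μ * (f - 1)) : c ≤ k * μ := by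
  obtain ⟨f, rfl⟩ : ∃ f', f = f' + 1 := ⟨f - 1, by
    rcases Nat.eq_zero_or_pos f with rfl | h
    · simp at h2; omega
    · omega⟩
  rw [Nat.add_sub_cancel] at h2
  have h3 : 1 ≤ μ := Nat.pos_of_ne_zero fun h => by rw [h, zero_mul] at h2; omega
  have h4 : n ≤ μ * (f + 1) := by rw [mul_add, mul_one]; omega
  refine Nat.le_of_mul_le_mul_right (h1.trans ((Nat.mul_le_mul_right k h4).trans (le_of_eq (by ring)))) f.succ_pos

theorem two_le_index (hH : Half H m) : 2 ≤ H.index := by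
  obtain ⟨k, hk, h⟩ := hH.exists_index_eq
  have := Nat.mul_le_mul hk hH.one_lt_d
  omega

/-- the fixed points of a non-trivial subgroup form a proper subspace -/
theorem ncard_Fx_le (hH : Half H m) {K : Subgroup G} (hK : K ≠ ⊥) : (Fx K : Set (G ⧸ H)).ncard ≤ (Ks H).ncard := by
  obtain ⟨c, hc⟩ : ∃ c, ¬ K ≤ cj c H := by
    by_contra h
    push Not at h
    exact hK (hH.eq_bot_of_le h)
  have h0 : ∀ β ∈ (Fx K : Set (G ⧸ H)), K ≤ cj β.out H := fun β hβ => mem_Fx_coe.1 (by rwa [QuotientGroup.out_eq'])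
  have h1 : ∀ β ∈ (Fx K : Set (G ⧸ H)), c⁻¹ * β.out ∉ H := fun β hβ h => hc (by
    have h2 := h0 β hβ
    rwa [show β.out = c * (c⁻¹ * β.out) by group, cj_mul, cj_of_mem h] at h2)
  refine Set.ncard_le_ncard_of_injOn (fun β => H ⊓ cj (c⁻¹ * β.out) H) (fun β hβ => inf_mem_Ks (h1 β hβ)) ?_
  intro β hβ β' hβ' h
  by_contra hne
  have h2 : β.out⁻¹ * β'.out ∉ H := coe_ne_coe_iff.1 (by rwa [QuotientGroup.out_eq', QuotientGroup.out_eq'])
  have h3 : cj c H ⊓ cj β.out H = cj c H ⊓ cj β'.out H := by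
    have h4 := congrArg (cj c) h
    simp only [cj_inf, ← cj_mul, mul_inv_cancel_left] at h4
    exact h4
  have h4 := hH.eq_inf_of_le' h2 (Y := cj c H ⊓ cj β.out H) inf_le_right (h3 ▸ inf_le_right)
    (hH.card_inf' (h1 β hβ)).ge
  exact hc ((le_inf (h0 β hβ) (h0 β' hβ')).trans (h4.ge.trans inf_le_left))

theorem sub.ne_bot {L P : Subgroup G} {s : ℕ} (hs : s.Prime) (h : s ∣ Nat.card L)
    (hP : P ∈ sub L (s ^ (Nat.card L).factorization s)) : P ≠ ⊥ := fun h1 => by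
  have h2 := hP.2
  rw [h1, Subgroup.card_bot] at h2
  exact (Nat.one_lt_pow (hs.factorization_pos_of_dvd Nat.card_pos.ne' h).ne' hs.one_lt).ne h2

theorem nS_le_sylow {B P : Subgroup G} {s : ℕ} (hs : s.Prime) (hP : P ∈ sub B (s ^ (Nat.card B).factorization s)) :
    nS B P ≤ Nat.card (Sylow s B) := by
  refine (Set.ncard_le_ncard fun _ hZ => ?_).trans (ncard_syl_le B hs)
  exact ⟨le_of_mem_Cjs hP.1 hZ, (card_of_mem_Cjs hZ).trans hP.2⟩

/-- the bound for the normaliser of a Sylow subgroup of `B ⊴ H` -/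
theorem syl_bound (hT : AS T) (hH : Half H m) {B P : Subgroup G} (hB : B ≤ H)
    (hn : H ≤ Subgroup.normalizer (B : Set G)) {s : ℕ} (hs : s.Prime) (hd : ¬ s ∣ Nat.card H / m)
    (hP : P ∈ sub B (s ^ (Nat.card B).factorization s)) (hc : ∀ t ∈ T, cj t P ≤ H → cj t P ≤ B) :
    (Subgroup.normalizer (P : Set G)).relIndex T ≤
      Nat.card (Sylow s B) * min (Nat.card (Sylow s B)) (Nat.gcd (Nat.card B) (Nat.card H / m)) := by
  have := Fact.mk hs
  have h1 : ∀ g, g ∉ H → ∃ b ∈ B, cj b P ≤ cj g H := fun g _ =>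
    exists_cj_le_of_relIndex (fun h => hd (h.trans (hH.relIndex_dvd_d hB hn g))) (sub.isP hP) hP.1
  have h2 := n_le_conj (hP.1.trans hB) hB h1
  have h3 := n_le_orb (hP.1.trans hB) hB h1 (μ := Nat.gcd (Nat.card B) (Nat.card H / m)) fun g _ =>
    Nat.le_of_dvd (Nat.gcd_pos_of_pos_left _ Nat.card_pos)
      (Nat.dvd_gcd (Subgroup.relIndex_dvd_card _ _) (hH.relIndex_dvd_d hB hn g))
  have h4 : {Z ∈ Cjs T P | Z ≤ H}.ncard ≤ Nat.card (Sylow s B) := by
    refine (Set.ncard_le_ncard ?_).trans (ncard_syl_le B hs)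
    rintro _ ⟨⟨t, ht, rfl⟩, h⟩
    exact ⟨hc t ht h, (card_cj t P).trans hP.2⟩
  rw [← nS_eq]
  refine arith_le (two_le_index hH) ((nS_mul_fix (hT.exists_cj_eq hH) P).trans (Nat.mul_le_mul_left _ h4)) ?_
  rw [← Nat.mul_min_mul_right]
  exact le_min (h2.trans (Nat.mul_le_mul_right _ (nS_le_sylow hs hP))) h3

theorem sigma_A (hT : AS T) (hH : Half H m) {c j : ℕ}
    (hc : ∀ x ∈ H ⊓ T, x ≠ 1 → c ≤ (Subgroup.centralizer {x}).relIndex T)
    (hj : ∀ g, g ∉ H → j ≤ ((((H ⊓ T : Subgroup G) : Set G) \ {1}) ∩ cj g H).ncard) :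
    j * c ≤ (Nat.card ↥(H ⊓ T) - 1) ^ 2 := by
  rcases Nat.eq_zero_or_pos c with rfl | h0
  · simp
  have h1 := hT.sigma_set hH _ (((H ⊓ T : Subgroup G) : Set G) \ {1}) (fun x hx => hx.1.1) (c := Nat.card T / c) hj
    (fun x hx t ht h => ⟨⟨h, T.mul_mem (T.mul_mem (T.inv_mem ht) hx.1.2) ht⟩, fun h' => hx.2 (by
      have h2 : t⁻¹ * x * t = 1 := h'
      have h3 : x = t * (t⁻¹ * x * t) * t⁻¹ := by group
      rw [h3, h2]; simp)⟩)
    fun x hx => by
      rw [Nat.le_div_iff_mul_le h0, ← card_mul_relIndex (inf_le_right : Subgroup.centralizer {x} ⊓ T ≤ T),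
        Subgroup.inf_relIndex_right]
      exact Nat.mul_le_mul_left _ (hc x hx.1 hx.2)
  rw [ncard_sdiff_one, ← pow_two] at h1
  have h2 : 0 < Nat.card T := Nat.card_pos
  refine Nat.le_of_mul_le_mul_right ?_ h2
  calc j * c * Nat.card T = j * Nat.card T * c := by ring
    _ ≤ (Nat.card ↥(H ⊓ T) - 1) ^ 2 * (Nat.card T / c) * c := Nat.mul_le_mul_right _ h1
    _ ≤ (Nat.card ↥(H ⊓ T) - 1) ^ 2 * Nat.card T := by
      rw [mul_assoc]; exact Nat.mul_le_mul_left _ (Nat.div_mul_le_self _ _)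

theorem m_div_le (hT : AS T) (hH : Half H m) {g : G} (hg : g ∉ H) :
    m / Nat.gcd m T.index ≤ Nat.card ↥(H ⊓ T ⊓ cj g H) := by
  have := hT.normal
  have h1 := card_mul_relIndex (inf_le_left : H ⊓ cj g H ⊓ T ≤ H ⊓ cj g H)
  rw [Subgroup.inf_relIndex_left, hH.card_inf g hg, inf_right_comm] at h1
  have h2 : T.relIndex (H ⊓ cj g H) ≤ Nat.gcd m T.index := Nat.le_of_dvd (Nat.gcd_pos_of_pos_left _ hH.m_pos)
    (Nat.dvd_gcd (Dvd.intro_left _ h1) (Subgroup.relIndex_dvd_index_of_normal _ _))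
  exact Nat.div_le_of_le_mul (h1.ge.trans ((Nat.mul_le_mul_left _ h2).trans (le_of_eq (mul_comm _ _))))

theorem two_dvd_card (hT : AS T) : 2 ∣ Nat.card G := by
  by_contra h
  exact Gen.not_solvable hT (Cfsg.Agent.S0205.result (by rwa [← Nat.not_even_iff_odd, even_iff_two_dvd]))

/-- the lines through the base point whose stabiliser contains `P` -/
theorem ncard_Ks_le (hH : Half H m) {P : Subgroup G} (h : ∀ g, g ∉ H → ∃ b ∈ H, cj b P ≤ cj g H) (hP : P ≤ H) :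
    (Ks H).ncard ≤ Nat.card H / m * {K ∈ Ks H | P ≤ K}.ncard := by
  rw [mul_comm]
  refine cover_le (Set.toFinite _) (Set.toFinite _) (fun K K' => K ∈ Cjs H K') ?_ fun K' hK' => ?_
  · rintro _ ⟨g, hg, rfl⟩
    obtain ⟨b, hb, h1⟩ := h g hg
    exact ⟨cj b⁻¹ (H ⊓ cj g H), ⟨cj_mem_Ks (inf_mem_Ks hg) (inv_mem hb),
      (cj_le_iff b).1 (le_inf ((cj_mono b hP).trans (cj_of_mem hb).le) h1)⟩, b, hb, (cj_cj_inv b _).symm⟩
  · refine (Set.ncard_le_ncard (t := Cjs H K') fun K hK => hK.2).trans ?_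
    have h1 := nS_mul H K'
    have h2 : m ≤ Nat.card ↥(H ⊓ Subgroup.normalizer (K' : Set G)) := by
      rw [← hH.card_of_mem_Ks hK'.1]
      exact Subgroup.card_le_of_le (le_inf (le_of_mem_Ks hK'.1) Subgroup.le_normalizer)
    rw [Nat.le_div_iff_mul_le hH.m_pos, ← h1]
    exact Nat.mul_le_mul_left _ h2

end

theorem boxNecX : BoxNecX := by
  intro G _ _ T H m cG cA cS hT hH hG hA hS
  have := hT.normal
  have e1 := card_div_eq hT hH
  have e2 := (hT.card_eq_mul hH).symm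
  have e3 : Nat.card H / (Nat.card H / m) = m := Nat.div_div_self hH.m_dvd Nat.card_pos.ne'
  have hKs : ∀ K ∈ Ks H, K ≤ H ∧ Nat.card K = m := fun K hK => ⟨le_of_mem_Ks hK, hH.card_of_mem_Ks hK⟩
  have hpr : ∀ π : Finset ℕ, (∀ t ∈ π, t.Prime) → ∏ t ∈ π, (sub H (t ^ m.factorization t)).ncard ≤
      ∏ t ∈ π, gb t ((Nat.card H).factorization t) (m.factorization t) * Nat.card (Sylow t H) := fun π hπ =>
    Finset.prod_le_prod' fun t ht => ncard_sub_le H (hπ t ht) _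
  refine ⟨Subgroup.card_dvd_of_le inf_le_right, ?_, ?_, hH.one_lt_d, ?_, ?_, ?_, ?_, ?_, ?_, ?_, ?_, sylNum _, ?_, ?_, ?_⟩
  · rw [e2]; exact hH.d_dvd_card
  · rw [e1]; exact hH.d_dvd
  · obtain ⟨k, hk, h⟩ := hH.exists_index_eq
    rw [e1, h, Nat.add_sub_cancel]
    exact Nat.mul_le_mul_right _ hk
  · rw [e2, e3]; exact hH.one_lt
  · obtain ⟨r, hr, h1, h2, -⟩ := hT.exists_prime hH
    exact fun h => hr.one_lt.ne' (Nat.dvd_one.1 (h ▸ Nat.dvd_gcd h1 h2))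
  · rw [e1]; exact Alt.two_dvd_mul hH (two_dvd_card hT)
  · rw [e2]; exact fun s hs h => Alt.prime_le_d hH hs h
  · rw [e2, e3]; exact hT.sigma_all hH hG
  · exact sigma_A hT hH hA fun g _ =>
      hH.sub_one_le_ncard_normal inf_le_left hT.le_normalizer_inf (Nat.div_mul_le_self _ _) g
  · rw [e2, e3]
    refine sigma_A hT hH hA fun g hg => ?_
    rw [sdiff_inter_comm, ← Subgroup.coe_inf, ncard_sdiff_one]
    exact Nat.sub_le_sub_right (m_div_le hT hH hg) 1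
  · rw [e2]; exact sylNum _
  · intro s hs h1 h2
    obtain ⟨P, hP⟩ := exists_sub (L := H ⊓ T) hs (Nat.ordProj_dvd _ s)
    exact (hS s hs P (hP.1.trans inf_le_left) (sub.ne_bot hs h1 hP) (sub.isP hP)).trans
      (syl_bound hT hH inf_le_left hT.le_normalizer_inf hs h2 hP fun t _ h =>
        le_inf h ((cj_mono t (hP.1.trans inf_le_right)).trans (cj_normal t T).le))
  · rw [e1, e2, e3]
    refine ⟨(Ks H).ncard, fun s hs h1 h2 => ?_, ?_, hH.index_sub_one_le_Ks⟩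
    · have := Fact.mk hs
      obtain ⟨P, hP⟩ := exists_sub (L := H) hs (Nat.ordProj_dvd _ s)
      have h3 : ∀ g, g ∉ H → ∃ b ∈ H, cj b P ≤ cj g H := fun g _ => hH.exists_cj_le h2 (sub.isP hP) hP.1 g
      refine ⟨?_, ?_, ?_⟩
      · have h4 := syl_bound hT hH le_rfl Subgroup.le_normalizer hs h2 hP fun _ _ h => h
        rw [Nat.gcd_eq_right hH.d_dvd_card] at h4
        exact (hS s hs P hP.1 (sub.ne_bot hs h1 hP) (sub.isP hP)).trans h4
      · exact (n_le_orb hP.1 le_rfl h3 fun g hg => (hH.relIndex_eq hg).le).trans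
          (Nat.mul_le_mul_left _ (Nat.sub_le_sub_right (ncard_Fx_le hH (sub.ne_bot hs h1 hP)) 1))
      · have h4 : ∀ t ∈ m.primeFactors.erase s, t.Prime := fun t ht =>
          Nat.prime_of_mem_primeFactors (Finset.mem_of_mem_erase ht)
        refine (ncard_Ks_le hH h3 hP.1).trans (Nat.mul_le_mul_left _ (le_trans ?_ (hpr _ h4)))
        refine ncard_le_prod (P := P) _ _ h4 (fun K hK => ⟨(hKs K hK.1).1, (hKs K hK.1).2, hK.2⟩) fun t ht h5 => ?_
        by_cases h6 : t = s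
        · right
          rw [h6, hP.2, hH.factorization_eq h2]
        · exact Or.inl (Finset.mem_erase.2 ⟨h6, Nat.mem_primeFactors.2 ⟨ht, h5, hH.m_pos.ne'⟩⟩)
    · have h4 : ∀ t ∈ m.primeFactors, t.Prime := fun t ht => Nat.prime_of_mem_primeFactors ht
      exact (ncard_le_prod (P := ⊥) _ _ h4 (fun K hK => ⟨(hKs K hK).1, (hKs K hK).2, bot_le⟩) fun t ht h5 =>
        Or.inl (Nat.mem_primeFactors.2 ⟨ht, h5, hH.m_pos.ne'⟩)).trans (hpr _ h4)

theorem boxNec : BoxNec := boxNec_of_X boxNecX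

theorem boxEl : BoxEl := by
  intro G _ _ T H M B m s k x hT hH hs hd hM hMn hB hBn hx ho
  have := Fact.mk hs
  have hxB : Subgroup.zpowers x ≤ B := Subgroup.zpowers_le.2 hx
  have hBH := hB.trans hM
  have h1 : ∀ g, g ∉ H → ∃ b ∈ B, cj b (Subgroup.zpowers x) ≤ cj g H := fun g _ =>
    hH.uni hd hM hMn hB hBn (Alt.isPGroup_zpowers ho) hxB g
  have h2 := n_le_conj (hxB.trans hBH) hBH h1
  have h3 := n_le_orb (hxB.trans hBH) hBH h1 (μ := Nat.gcd (Nat.card B) (Nat.card H / m)) fun g _ =>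
    Nat.le_of_dvd (Nat.gcd_pos_of_pos_left _ Nat.card_pos)
      (Nat.dvd_gcd (Subgroup.relIndex_dvd_card _ _) (hH.relIndex_dvd_d₂ hM hMn hB hBn g))
  have h4 : nS B (Subgroup.zpowers x) ≤ (Subgroup.centralizer {x}).relIndex B := by
    rw [nS_eq]
    refine Subgroup.relIndex_le_of_le_left (fun c hc => ?_) Subgroup.index_ne_zero_of_finite
    refine Alt.mem_normalizer_zpowers (j := 1) ?_
    rw [pow_one, Subgroup.mem_centralizer_singleton_iff.1 hc, mul_inv_cancel_right]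
  have h5 : (Subgroup.centralizer {x}).relIndex T * fix H x ≤ H.index * (clsIn T H x).ncard := by
    have h5 := hT.fix_mul hH x
    have h6 := card_mul_relIndex (inf_le_right : Subgroup.centralizer {x} ⊓ T ≤ T)
    rw [Subgroup.inf_relIndex_right, ← hT.card_inf_mul hH] at h6
    refine Nat.le_of_mul_le_mul_right (le_of_eq ?_) (Nat.card_pos (α := ↥(H ⊓ T)))
    rw [mul_assoc, h5]
    linear_combination (clsIn T H x).ncard * h6
  rw [mul_comm]
  refine arith_le (two_le_index hH) h5 ?_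
  rw [← Nat.mul_min_mul_right, fix_eq]
  exact le_min h3 (h2.trans (Nat.mul_le_mul_right _ h4))

theorem boxSq : BoxSq := by
  intro G _ _ H Y W hH hW
  have h1 := nS_mul_fix (T := ⊤) (H := H) (fun g => ⟨g, trivial, rfl⟩) Y
  have h2 : {Z ∈ Cjs ⊤ Y | Z ≤ H} = cjIn H Y := by
    ext Z
    exact ⟨fun ⟨⟨g, _, h⟩, h'⟩ => ⟨h', g, h⟩, fun ⟨h', g, h⟩ => ⟨⟨g, trivial, h⟩, h'⟩⟩
  rw [h2, Fx_eq, ← Nat.card_coe_set_eq] at h1
  have h3 : H.index * W.ncard ≤ nS ⊤ Y ^ 2 := by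
    rw [show H.index = (Set.univ : Set (G ⧸ H)).ncard from (Set.ncard_univ _).symm, ← Set.ncard_prod, pow_two, nS,
      ← Set.ncard_prod]
    have key : ∀ w ∈ W, ∀ g : G, (cj g w.1, cj g w.2) ∈ Cjs ⊤ Y ×ˢ Cjs ⊤ Y := fun w hw g => by
      obtain ⟨⟨-, a, ha⟩, ⟨-, b, hb⟩, -⟩ := hW w hw
      exact ⟨cj_mem_Cjs trivial ⟨a, trivial, ha⟩, cj_mem_Cjs trivial ⟨b, trivial, hb⟩⟩
    refine Set.ncard_le_ncard_of_injOn (fun z => (cj z.1.out z.2.1, cj z.1.out z.2.2)) (fun z hz => key _ hz.2 _) ?_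
    rintro ⟨β, w⟩ hw ⟨β', w'⟩ hw' h
    have e1 : cj β.out w.1 = cj β'.out w'.1 := congrArg Prod.fst h
    have e2 : cj β.out w.2 = cj β'.out w'.2 := congrArg Prod.snd h
    have e3 : β = β' := by
      rw [← QuotientGroup.out_eq' β, ← QuotientGroup.out_eq' β', QuotientGroup.eq]
      refine (hW w hw.2).2.2 _ ?_ ?_
      · rw [cj_mul, ← cj_le_iff, e1]
        exact cj_mono _ (hW w' hw'.2).1.1
      · rw [cj_mul, ← cj_le_iff, e2]
        exact cj_mono _ (hW w' hw'.2).2.1.1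
    subst e3
    exact Prod.ext rfl (Prod.ext (cj_inj _ e1) (cj_inj _ e2))
  have h4 : 0 < H.index := Nat.pos_of_ne_zero Subgroup.index_ne_zero_of_finite
  refine Nat.le_of_mul_le_mul_left ?_ h4
  calc H.index * (Nat.card (fixedPoints Y (G ⧸ H)) ^ 2 * W.ncard)
      = H.index * W.ncard * Nat.card (fixedPoints Y (G ⧸ H)) ^ 2 := by ring
    _ ≤ nS ⊤ Y ^ 2 * Nat.card (fixedPoints Y (G ⧸ H)) ^ 2 := Nat.mul_le_mul_right _ h3
    _ = (nS ⊤ Y * Nat.card (fixedPoints Y (G ⧸ H))) ^ 2 := by ring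
    _ ≤ (H.index * (cjIn H Y).ncard) ^ 2 := Nat.pow_le_pow_left h1 2
    _ = _ := by ring

theorem boxCnt : BoxCnt := by
  intro G _ _ H N m 𝓤 hH hN hn h1 h2
  have key : ∀ K ∈ Ks H, N ⊓ K ∈ 𝓤 ∧ K = H ⊓ Subgroup.normalizer ((N ⊓ K : Subgroup G) : Set G) := by
    rintro _ ⟨g, hg, rfl⟩
    have h3 : N ⊓ (H ⊓ cj g H) ∈ 𝓤 := by
      rw [← inf_assoc, inf_eq_left.2 hN]
      exact h1 g hg
    refine ⟨h3, Subgroup.eq_of_le_of_card_ge (le_inf inf_le_left fun x hx => nm_iff.2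
      (nm_inf (nm_of_conj (hn x hx.1)) (cj_of_mem hx))) ?_⟩
    rw [hH.card_inf g hg]
    exact h2 _ h3
  exact hH.index_le_sq_of_injOn (fun K => N ⊓ K) 𝓤 (Set.toFinite _) (fun K hK => (key K hK).1) fun K hK K' hK' h => by
    rw [(key K hK).2, (key K' hK').2]
    exact congrArg (fun U : Subgroup G => H ⊓ Subgroup.normalizer (U : Set G)) h

end Cfsg.Agent.TH.Sv
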