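import Cfsg.Agent.TH.Sv.Nec

/-!
# S3541: `Sv.boxLin2` (helper74)
-/

set_option autoImplicit false
set_option linter.unusedSectionVars false

namespace Cfsg.Agent.TH.Sv

open MulAction Own

section

variable {G : Type*} [Group G] [Finite G] {T H : Subgroup G} {m : ℕ}

theorem stab_out (β : G ⧸ H) : stabilizer G β = cj β.out H := by
  rw [← stabilizer_coe, QuotientGroup.out_eq']

theorem card_stab_inf (hH : Half H m) {β γ : G ⧸ H} (h : β ≠ γ) : Nat.card ↥(stabilizer G β ⊓ stabilizer G γ) = m := by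
  rw [stab_out, stab_out]
  exact hH.card_inf' (coe_ne_coe_iff.1 (by rwa [QuotientGroup.out_eq', QuotientGroup.out_eq']))

/-- a point outside the fixed point set of `K` is joined to different fixed points by different lines -/
theorem line_inj (hH : Half H m) {K : Subgroup G} {c β γ : G ⧸ H} (hc : c ∉ Fx K) (hβ : β ∈ Fx K) (hγ : γ ∈ Fx K)
    (h : stabilizer G c ⊓ stabilizer G β = stabilizer G c ⊓ stabilizer G γ) : β = γ := by
  by_contra hne
  have h1 : stabilizer G c ⊓ stabilizer G β = stabilizer G β ⊓ stabilizer G γ :=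
    Subgroup.eq_of_le_of_card_ge (le_inf inf_le_right (h ▸ inf_le_right))
      (by rw [card_stab_inf hH hne, card_stab_inf hH fun e : c = β => hc (e ▸ hβ)])
  exact hc ((le_inf hβ hγ).trans (h1.ge.trans inf_le_left))

/-- `|x^T| fix(x) = n |x^T ∩ H|` -/
theorem cls_mul_fix (hT : AS T) (hH : Half H m) (x : G) :
    (Subgroup.centralizer {x}).relIndex T * fix H x = H.index * (clsIn T H x).ncard := by
  have h5 := hT.fix_mul hH x
  have h6 := card_mul_relIndex (inf_le_right : Subgroup.centralizer {x} ⊓ T ≤ T)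
  rw [Subgroup.inf_relIndex_right, ← hT.card_inf_mul hH] at h6
  refine Nat.eq_of_mul_eq_mul_right (Nat.card_pos (α := ↥(H ⊓ T))) ?_
  rw [mul_assoc, h5]
  linear_combination (clsIn T H x).ncard * h6

/-- subgroups with `g` generators -/
theorem ncard_le_pow (L : Subgroup G) (g : ℕ) (𝒦 : Set (Subgroup G))
    (h : ∀ K ∈ 𝒦, K ≤ L ∧ ∃ s : Fin g → G, Subgroup.closure (Set.range s) = K) : 𝒦.ncard ≤ Nat.card L ^ g := by
  choose s hs using fun K : 𝒦 => (h K K.2).2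
  have h1 : Nat.card (Fin g → L) = Nat.card L ^ g := by rw [Nat.card_fun, Nat.card_eq_fintype_card (α := Fin g), Fintype.card_fin]
  rw [← Nat.card_coe_set_eq, ← h1]
  refine Nat.card_le_card_of_injective
    (fun K i => ⟨s K i, (h K K.2).1 (hs K ▸ Subgroup.subset_closure ⟨i, rfl⟩)⟩) fun K K' e => Subtype.ext ?_
  have h2 : s K = s K' := funext fun i => congrArg Subtype.val (congrFun e i)
  rw [← hs K, ← hs K', h2]

/-- the points whose common stabiliser with `β` meets `T` -/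
def Bad (T : Subgroup G) (β : G ⧸ H) : Set (G ⧸ H) := {γ | γ ≠ β ∧ stabilizer G β ⊓ stabilizer G γ ⊓ T ≠ ⊥}

theorem ncard_Bad_le [T.Normal] (β : G ⧸ H) : (Bad T β).ncard ≤ (Bad T ((1 : G) : G ⧸ H)).ncard := by
  induction β using QuotientGroup.induction_on with
  | _ g =>
  have h1 : g⁻¹ • (g : G ⧸ H) = ((1 : G) : G ⧸ H) := by
    rw [MulAction.Quotient.smul_mk, smul_eq_mul, inv_mul_cancel]
  refine Set.ncard_le_ncard_of_injOn (fun γ => g⁻¹ • γ) (fun γ hγ => ⟨fun e => hγ.1 ?_, fun e => hγ.2 ?_⟩)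
    fun _ _ _ _ h => MulAction.injective _ h
  · exact MulAction.injective g⁻¹ (e.trans h1.symm)
  · rw [← cj_eq_bot (g := g⁻¹), cj_inf, cj_inf, cj_stab, cj_stab, cj_normal, h1]
    exact e

theorem four_mul_Bad_lt (hT : AS T) (hH : Half H m) {c : ℕ}
    (hc : ∀ x ∈ H ⊓ T, x ≠ 1 → c ≤ (Subgroup.centralizer {x}).relIndex T) (h4 : 4 * Nat.card ↥(H ⊓ T) ^ 2 ≤ c) :
    4 * (Bad T ((1 : G) : G ⧸ H)).ncard < H.index := by
  have ha : 0 < Nat.card ↥(H ⊓ T) := Nat.card_pos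
  have hc0 : 0 < c := lt_of_lt_of_le (by positivity) h4
  have h1 : (Bad T ((1 : G) : G ⧸ H)).ncard ≤ (((H ⊓ T : Subgroup G) : Set G) \ {1}).ncard *
      (H.index * (Nat.card ↥(H ⊓ T) - 1) / c) := by
    refine cover_le (Set.toFinite _) (Set.toFinite _) (fun γ x => x • γ = γ) (fun γ hγ => ?_) fun x hx => ?_
    · obtain ⟨x, hx, hx1⟩ := (Subgroup.bot_or_exists_ne_one _).resolve_left hγ.2
      rw [stabilizer_coe, cj_one] at hx
      exact ⟨x, ⟨⟨hx.1.1, hx.2⟩, hx1⟩, hx.1.2⟩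
    · have h2 : (clsIn T H x).ncard ≤ Nat.card ↥(H ⊓ T) - 1 := by
        rw [← ncard_sdiff_one]
        refine Set.ncard_le_ncard ?_
        rintro _ ⟨h, t, ht, rfl⟩
        refine ⟨⟨h, T.mul_mem (T.mul_mem (T.inv_mem ht) hx.1.2) ht⟩, fun h' => hx.2 ?_⟩
        have h2 : t⁻¹ * x * t = 1 := h'
        have h3 : x = t * (t⁻¹ * x * t) * t⁻¹ := by group
        rw [h3, h2]; simp
      have h3 : {γ ∈ Bad T ((1 : G) : G ⧸ H) | x • γ = γ}.ncard ≤ fix H x := by
        rw [fix, Nat.card_coe_set_eq]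
        exact Set.ncard_le_ncard fun γ hγ => hγ.2
      refine h3.trans ((Nat.le_div_iff_mul_le hc0).2 ?_)
      rw [mul_comm]
      exact ((Nat.mul_le_mul_right _ (hc x hx.1 hx.2)).trans (cls_mul_fix hT hH x).le).trans (Nat.mul_le_mul_left _ h2)
  rw [ncard_sdiff_one] at h1
  obtain ⟨a, ha'⟩ : ∃ a, Nat.card ↥(H ⊓ T) = a + 1 := ⟨_, (Nat.succ_pred_eq_of_pos ha).symm⟩
  rw [ha'] at h1 h4
  rw [Nat.add_sub_cancel] at h1
  have h2 := Nat.div_mul_le_self (H.index * a) c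
  have h3 := hH.index_pos
  refine Nat.lt_of_mul_lt_mul_right (a := (a + 1) ^ 2) ?_
  calc 4 * (Bad T ((1 : G) : G ⧸ H)).ncard * (a + 1) ^ 2 = (Bad T ((1 : G) : G ⧸ H)).ncard * (4 * (a + 1) ^ 2) := by ring
    _ ≤ a * (H.index * a / c) * c := Nat.mul_le_mul h1 h4
    _ ≤ a * (H.index * a) := by rw [mul_assoc]; exact Nat.mul_le_mul_left _ h2
    _ < H.index * (a + 1) ^ 2 := by nlinarith

/-- a line has at most `(n + 1) / 2` points -/
theorem two_mul_Fx_le (hH : Half H m) {K : Subgroup G} (hK : K ∈ Ks H) :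
    2 * (Fx K : Set (G ⧸ H)).ncard ≤ H.index + 1 := by
  obtain ⟨t, -, ht⟩ := hH.exists_not_le (hH.ne_bot_of_mem_Ks hK) (le_of_mem_Ks hK)
  have h1 : (Fx K ∩ Fx (cj t K) : Set (G ⧸ H)).ncard ≤ 1 := by
    refine (Set.ncard_le_one (Set.toFinite _)).2 fun β hβ γ hγ => ?_
    by_contra hne
    have h2 : K = stabilizer G β ⊓ stabilizer G γ := Subgroup.eq_of_le_of_card_ge (le_inf hβ.1 hγ.1)
      (by rw [card_stab_inf hH hne, hH.card_of_mem_Ks hK])
    have h3 : cj t K = stabilizer G β ⊓ stabilizer G γ := Subgroup.eq_of_le_of_card_ge (le_inf hβ.2 hγ.2)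
      (by rw [card_stab_inf hH hne, card_cj, hH.card_of_mem_Ks hK])
    exact ht ((h2.trans h3.symm).le.trans (cj_mono t (le_of_mem_Ks hK)))
  have h2 := Set.ncard_union_add_ncard_inter (Fx K : Set (G ⧸ H)) (Fx (cj t K))
  have h3 : (Fx K ∪ Fx (cj t K) : Set (G ⧸ H)).ncard ≤ H.index := Set.ncard_le_card _
  rw [ncard_Fx_cj] at h2
  omega

end

theorem boxLin2 : BoxLin2 := by
  intro G _ _ T H m c g hT hH hc h4 hg
  have := hT.normal
  have hb := four_mul_Bad_lt hT hH hc h4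
  set b := (Bad T ((1 : G) : G ⧸ H)).ncard with hbdef
  set R := Nat.card H ^ g with hR
  have hn := two_le_index hH
  -- the good points
  let Gd : Set (G ⧸ H) := {((1 : G) : G ⧸ H)}ᶜ \ Bad T ((1 : G) : G ⧸ H)
  have h1 : H.index - 1 - b ≤ Gd.ncard := by
    rw [← Gen.ncard_compl]
    exact Set.le_ncard_sdiff _ _
  have hGd : ∀ x : G, (x : G ⧸ H) ∈ Gd → x ∉ H ∧ H ⊓ cj x H ⊓ T = ⊥ := fun x hx => by
    refine ⟨Gen.mk_ne_one.1 hx.1, ?_⟩
    by_contra h
    exact hx.2 ⟨hx.1, by rwa [stabilizer_coe, stabilizer_coe, cj_one]⟩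
  obtain ⟨β, hβ⟩ : Gd.Nonempty := (Set.ncard_pos (Set.toFinite _)).1 (by omega)
  obtain ⟨x, rfl⟩ := QuotientGroup.mk_surjective β
  obtain ⟨hx, hx'⟩ := hGd x hβ
  refine ⟨?_, ?_, ?_⟩
  · have h2 := card_mul_relIndex (inf_le_left : H ⊓ T ⊓ cj x H ≤ H ⊓ T)
    rw [Subgroup.inf_relIndex_left, inf_right_comm, hx', Subgroup.card_bot, one_mul] at h2
    exact h2 ▸ hT.relIndex_dvd_d hH x
  · have h2 := card_mul_relIndex (inf_le_left : H ⊓ cj x H ⊓ T ≤ H ⊓ cj x H)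
    rw [Subgroup.inf_relIndex_left, hx', Subgroup.card_bot, one_mul, hH.card_inf x hx] at h2
    exact h2 ▸ Subgroup.relIndex_dvd_index_of_normal _ _
  -- lines have at most `2 R` points
  have h2 : ∀ K ∈ Ks H, (Fx K : Set (G ⧸ H)).ncard ≤ 2 * R := fun K hK => by
    have h3 := two_mul_Fx_le hH hK
    set f := (Fx K : Set (G ⧸ H)).ncard with hf
    have h5 : ((Fx K)ᶜ : Set (G ⧸ H)).ncard = H.index - f := Set.ncard_compl _
    have h6 : f * (H.index - f - b) ≤ ((Fx K)ᶜ : Set (G ⧸ H)).ncard * R := by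
      refine dc_le (Set.toFinite _) (Set.toFinite _) (fun β γ : G ⧸ H => stabilizer G β ⊓ stabilizer G γ ⊓ T = ⊥)
        (fun β hβ => ?_) fun γ hγ => ?_
      · rw [← h5]
        refine (Nat.sub_le_sub_left (ncard_Bad_le β) _).trans ((Set.le_ncard_sdiff _ _).trans (Set.ncard_le_ncard ?_))
        intro γ hγ
        refine ⟨hγ.1, ?_⟩
        by_contra h
        exact hγ.2 ⟨fun e => hγ.1 (e ▸ hβ), h⟩
      · refine le_trans ?_ ((ncard_le_pow (stabilizer G γ) g {L | L ≤ stabilizer G γ ∧ L ⊓ T = ⊥}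
          fun L hL => ⟨hL.1, hg L hL.2⟩).trans (by rw [stab_out, card_cj]))
        exact Set.ncard_le_ncard_of_injOn (fun β => stabilizer G γ ⊓ stabilizer G β)
          (fun β hβ => ⟨inf_le_left, by rw [inf_comm (stabilizer G γ)]; exact hβ.2⟩)
          fun β hβ β' hβ' e => line_inj hH hγ hβ.1 hβ'.1 e
    rw [h5] at h6
    have h7 : H.index - f ≤ 2 * (H.index - f - b) := by omega
    have h8 : 0 < H.index - f := by omega
    refine Nat.le_of_mul_le_mul_right ?_ h8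
    calc f * (H.index - f) ≤ f * (2 * (H.index - f - b)) := Nat.mul_le_mul_left _ h7
      _ = 2 * (f * (H.index - f - b)) := by ring
      _ ≤ 2 * ((H.index - f) * R) := Nat.mul_le_mul_left _ h6
      _ = _ := by ring
  have h3 : Gd.ncard ≤ {K ∈ Ks H | K ⊓ T = ⊥}.ncard * (2 * R - 1) := by
    refine cover_le (Set.toFinite _) (Set.toFinite _) (fun β K => β ∈ Fx K) (fun β hβ => ?_) fun K hK => ?_
    · obtain ⟨y, rfl⟩ := QuotientGroup.mk_surjective β
      exact ⟨_, ⟨inf_mem_Ks (hGd y hβ).1, (hGd y hβ).2⟩, mem_Fx_coe.2 inf_le_right⟩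
    · refine le_trans ?_ (Nat.sub_le_sub_right (h2 K hK.1) 1)
      rw [← Set.ncard_sdiff_singleton_of_mem (one_mem_Fx (le_of_mem_Ks hK.1))]
      exact Set.ncard_le_ncard fun β hβ => ⟨hβ.2, hβ.1.1⟩
  have h5 : {K ∈ Ks H | K ⊓ T = ⊥}.ncard ≤ R := ncard_le_pow H g _ fun K hK => ⟨le_of_mem_Ks hK.1, hg K hK.2⟩
  have h6 := h1.trans (h3.trans (Nat.mul_le_mul_right _ h5))
  have h7 : 1 ≤ R := Nat.one_le_pow _ _ Nat.card_pos
  rw [pow_mul', ← hR]
  obtain ⟨r, hr⟩ : ∃ r, R = r + 1 := ⟨R - 1, by omega⟩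
  rw [hr, show 2 * (r + 1) - 1 = 2 * r + 1 by omega] at h6
  rw [hr]
  have h8 : 3 * H.index ≤ 4 * ((r + 1) * (2 * r + 1)) + 3 := by omega
  nlinarith

end Cfsg.Agent.TH.Sv
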