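import Cfsg.Agent.TH.Tri
import Cfsg.Agent.TH.Sv.Nec
import Cfsg.Agent.Lib.MinNormal
import Cfsg.Agent.Schreier.Assembly

/-!
# S3541: `boxTri` and `Sv.boxE` (helper74)
-/

set_option autoImplicit false
set_option linter.unusedSectionVars false

namespace Cfsg.Agent.TH

open Own

namespace Sv

section

variable {G : Type*} [Group G] [Finite G] {T H : Subgroup G} {m : ℕ}

/-- the minimal `H`-invariant subgroups of `H ⊓ T` -/
def MinA (T H N : Subgroup G) : Prop :=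
  N ≤ H ⊓ T ∧ N ≠ ⊥ ∧ (∀ h ∈ H, cj h N = N) ∧ ∀ M : Subgroup G, M ≤ N → (∀ h ∈ H, cj h M = M) → M = ⊥ ∨ M = N

theorem exists_minA {Z : Subgroup G} (h1 : Z ≤ H ⊓ T) (h0 : Z ≠ ⊥) (h2 : ∀ h ∈ H, cj h Z = Z) :
    ∃ N, N ≤ Z ∧ MinA T H N := by
  obtain ⟨N, ⟨hNZ, hNn, hN0⟩, hmin⟩ := WellFounded.has_min (wellFounded_lt (α := Subgroup G))
    {N : Subgroup G | N ≤ Z ∧ (∀ h ∈ H, cj h N = N) ∧ N ≠ ⊥} ⟨Z, le_rfl, h2, h0⟩
  refine ⟨N, hNZ, hNZ.trans h1, hN0, hNn, fun K hKN hK => ?_⟩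
  by_cases h3 : K = ⊥
  · exact Or.inl h3
  · exact Or.inr (eq_of_le_of_not_lt hKN (hmin K ⟨hKN.trans hNZ, hK, h3⟩))

theorem MinA.exists_simple {N : Subgroup G} (h : MinA T H N) :
    ∃ S : Subgroup G, S ≤ N ∧ (∀ x ∈ N, cj x S = S) ∧ IsSimpleGroup S := by
  have hN : N ≤ H := h.1.trans inf_le_left
  have h1 : (N.subgroupOf H).Normal := ⟨fun x hx a => nm_conj (K := N) (h.2.2.1 a a.2) hx⟩
  obtain ⟨-, s, -, -, ⟨S, hS⟩, -, -, h2⟩ := Lib.MinNormal.exists_set_decomposition (N.subgroupOf H)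
    (fun e => h.2.1 (by rw [← Subgroup.map_subgroupOf_eq_of_le hN, e, Subgroup.map_bot])) fun M hM hMN => by
      rcases h.2.2.2 (M.map H.subtype) (Subgroup.map_le_iff_le_comap.2 hMN) (fun a ha => nm_of_conj (by
        rintro _ ⟨x, hx, rfl⟩
        exact ⟨_, hM.conj_mem x hx ⟨a, ha⟩, rfl⟩)) with h3 | h3
      · exact Or.inl ((Subgroup.map_eq_bot_iff_of_injective _ H.subtype_injective).1 h3)
      · exact Or.inr (by rw [← h3]; exact (Subgroup.comap_map_eq_self_of_injective H.subtype_injective M).symm)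
  obtain ⟨h3, -, h4, -, h5⟩ := h2 S hS
  refine ⟨S.map H.subtype, Subgroup.map_le_iff_le_comap.2 h3, fun x hx => nm_of_conj ?_,
    (S.equivMapOfInjective H.subtype H.subtype_injective).symm.isSimpleGroup⟩
  rintro _ ⟨y, hy, rfl⟩
  exact ⟨_, (Subgroup.mem_normalizer_iff.1 (h4 (show (⟨x, hN hx⟩ : H) ∈ N.subgroupOf H from hx)) y).1 hy, rfl⟩

omit [Finite G] in
theorem comm_of_inf {S R : Subgroup G} (h1 : ∀ x ∈ S, cj x R = R) (h2 : ∀ x ∈ R, cj x S = S) (h : S ⊓ R = ⊥) :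
    ∀ x ∈ S, ∀ y ∈ R, x * y = y * x := fun _ hx _ hy =>
  Lib.MinNormal.commute_of_disjoint (fun a ha => nm_iff.2 (h1 a ha)) (fun a ha => nm_iff.2 (h2 a ha))
    (disjoint_iff.2 h) hx hy

omit [Finite G] in
theorem inf_eq_bot_or_le {S R : Subgroup G} [IsSimpleGroup S] (h : ∀ x ∈ S, cj x R = R) : S ⊓ R = ⊥ ∨ S ≤ R := by
  have h1 : (R.subgroupOf S).Normal := ⟨fun x hx a => nm_conj (K := R) (h a a.2) hx⟩
  rcases h1.eq_bot_or_eq_top with h2 | h2
  · exact Or.inl (disjoint_iff.1 (Subgroup.subgroupOf_eq_bot.1 h2).symm)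
  · exact Or.inr (Subgroup.subgroupOf_eq_top.1 h2)

/-- the simple factors -/
def Fac (T H : Subgroup G) : Set (Subgroup G) :=
  {S | IsSimpleGroup S ∧ ∃ N, MinA T H N ∧ S ≤ N ∧ ∀ x ∈ N, cj x S = S}

theorem Fac.comm {S R : Subgroup G} (hS : S ∈ Fac T H) (hR : R ∈ Fac T H) (hne : S ≠ R) :
    ∀ x ∈ S, ∀ y ∈ R, x * y = y * x := by
  obtain ⟨s1, N, hN, s2, s3⟩ := hS
  obtain ⟨r1, M, hM, r2, r3⟩ := hR
  by_cases h : N = M
  · subst h
    refine comm_of_inf (fun x hx => r3 x (s2 hx)) (fun x hx => s3 x (r2 hx)) ?_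
    rcases inf_eq_bot_or_le (S := S) (R := R) fun x hx => r3 x (s2 hx) with h1 | h1
    · exact h1
    rcases inf_eq_bot_or_le (S := R) (R := S) fun x hx => s3 x (r2 hx) with h2 | h2
    · rwa [inf_comm]
    · exact absurd (le_antisymm h1 h2) hne
  · have h1 : N ⊓ M = ⊥ := by
      rcases hN.2.2.2 (N ⊓ M) inf_le_left fun a ha => nm_inf (hN.2.2.1 a ha) (hM.2.2.1 a ha) with h1 | h1
      · exact h1
      · exact absurd ((hM.2.2.2 N (h1 ▸ inf_le_right) hN.2.2.1).resolve_left hN.2.1) h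
    exact fun x hx y hy => comm_of_inf (fun a ha => hM.2.2.1 a (hN.1 ha).1) (fun a ha => hN.2.2.1 a (hM.1 ha).1) h1
      x (s2 hx) y (r2 hy)

theorem Fac.cj {S : Subgroup G} (hS : S ∈ Fac T H) {h : G} (hh : h ∈ H) : TH.cj h S ∈ Fac T H := by
  obtain ⟨s1, N, hN, s2, s3⟩ := hS
  exact ⟨(S.equivMapOfInjective _ (MulAut.conj h).injective).symm.isSimpleGroup, N, hN,
    (cj_mono h s2).trans (hN.2.2.1 h hh).le, fun x hx => nm_cj_iff.2 (s3 _ (nm_conj' (hN.2.2.1 h hh) hx))⟩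

theorem Fac.le {S : Subgroup G} (hS : S ∈ Fac T H) : S ≤ H ⊓ T :=
  let ⟨_, _, hN, s2, _⟩ := hS
  s2.trans hN.1

end

end Sv

open Sv

theorem boxTri : BoxTri := by
  intro G _ _ T H m hT hH
  have := hT.normal
  by_cases hab : ∃ A : Subgroup G, A ≤ T ∧ H ≤ Subgroup.normalizer (A : Set G) ∧ A ≠ ⊥ ∧ ∀ x ∈ A, ∀ y ∈ A, x * y = y * x
  · obtain ⟨A, h1, h2, h3, h4⟩ := hab
    obtain ⟨E, r, -, h⟩ := DS.Gen.exists_loc ⟨hT.normal, hT.simple, hT.nonab, hT.cent, hH.max, hT.not_le hH⟩ h1 h2 h3 h4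
    exact Or.inl ⟨E, r, h⟩
  right
  have hne : ∀ S ∈ Fac T H, S ≠ ⊥ := fun S hS => by
    have := hS.1
    exact (Subgroup.nontrivial_iff_ne_bot S).1 inferInstance
  -- the subgroup generated by the conjugates of an abelian factor is abelian
  have hna : ∀ S ∈ Fac T H, ¬ IsMulCommutative S := fun S hS hc => by
    let C : Set G := {x | ∃ h ∈ H, x ∈ cj h S}
    have h1 : ∀ x ∈ C, ∀ y ∈ C, x * y = y * x := by
      rintro x ⟨a, ha, hx⟩ y ⟨b, hb, hy⟩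
      by_cases h : cj a S = cj b S
      · rw [← h] at hy
        obtain ⟨x, hx, rfl⟩ := hx
        obtain ⟨y, hy, rfl⟩ := hy
        rw [← map_mul, ← map_mul]
        exact congrArg _ (congrArg Subtype.val (hc.1.comm ⟨x, hx⟩ ⟨y, hy⟩))
      · exact Fac.comm (Fac.cj hS ha) (Fac.cj hS hb) h x hx y hy
    refine hab ⟨Subgroup.closure C, (Subgroup.closure_le _).2 ?_, fun a ha => nm_iff.2 (nm_of_le ?_), fun h => hne S hS ?_,
      fun x hx y hy => ?_⟩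
    · rintro x ⟨a, ha, hx⟩
      exact (Fac.le (Fac.cj hS ha) hx).2
    · rw [cj_closure]
      refine Subgroup.closure_mono ?_
      rintro _ ⟨x, ⟨b, hb, hx⟩, rfl⟩
      exact ⟨a * b, mul_mem ha hb, by rw [cj_mul]; exact conj_mem_cj a hx⟩
    · rw [eq_bot_iff, ← h]
      exact fun x hx => Subgroup.subset_closure ⟨1, one_mem _, by rwa [cj_one]⟩
    · have h2 : Subgroup.closure C ≤ Subgroup.centralizer (Subgroup.closure C : Set G) := by
        rw [Subgroup.centralizer_closure, Subgroup.closure_le]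
        exact fun x hx y hy => h1 y hy x hx
      exact h2 hy x hx
  have hex : ∀ Z : Subgroup G, Z ≤ H ⊓ T → Z ≠ ⊥ → (∀ h ∈ H, cj h Z = Z) → ∃ S ∈ Fac T H, S ≤ Z := fun Z h1 h2 h3 => by
    obtain ⟨N, h4, hN⟩ := exists_minA h1 h2 h3
    obtain ⟨S, h5, h6, h7⟩ := hN.exists_simple
    exact ⟨S, ⟨h7, N, hN, h5, h6⟩, h5.trans h4⟩
  obtain ⟨S₀, hS₀, -⟩ := hex _ le_rfl (hT.inf_ne_bot hH) fun h hh => nm_iff.1 (hT.le_normalizer_inf hh)
  have hcent : ∀ t ∈ T, (∀ S ∈ Fac T H, ∀ x ∈ S, t * x = x * t) → t = 1 := by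
    let C : Subgroup G := T ⊓ Subgroup.centralizer {x | ∃ S ∈ Fac T H, x ∈ S}
    have h1 : ∀ h ∈ H, cj h C = C := fun h hh => nm_of_conj fun c hc => ⟨hT.normal.conj_mem c hc.1 h, by
      rintro x ⟨S, hS, hx⟩
      have h2 := hc.2 (h⁻¹ * x * h⁻¹⁻¹) ⟨_, Fac.cj hS (inv_mem hh), conj_mem_cj _ hx⟩
      calc x * (h * c * h⁻¹) = h * (h⁻¹ * x * h⁻¹⁻¹ * c) * h⁻¹ := by group
        _ = h * c * h⁻¹ * x := by rw [h2]; group⟩
    have h2 : C = ⊥ := by
      by_contra h0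
      have h3 : C ≤ H := by
        by_contra h3
        have h4 : H ⊔ C = ⊤ := hH.max.2 _ (left_lt_sup.2 h3)
        have h5 : C.Normal := Subgroup.normalizer_eq_top_iff.1 (eq_top_iff.2 (h4.ge.trans
          (sup_le (fun h hh => nm_iff.2 (h1 h hh)) Subgroup.le_normalizer)))
        have := hT.simple
        rcases inf_eq_bot_or_le (S := T) (R := C) fun x _ => cj_normal x C with h6 | h6
        · exact h0 ((inf_eq_right.2 inf_le_left).symm.trans h6)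
        · obtain ⟨x, hx, hx1⟩ := (Subgroup.bot_or_exists_ne_one S₀).resolve_left (hne S₀ hS₀)
          exact not_le_centralizer hT hx1 fun t ht =>
            Subgroup.mem_centralizer_singleton_iff.2 ((h6 ht).2 x ⟨S₀, hS₀, hx⟩).symm
      obtain ⟨S, hS, h4⟩ := hex C (le_inf h3 inf_le_left) h0 h1
      exact hna S hS ⟨⟨fun x y => Subtype.ext ((h4 y.2).2 x ⟨S, hS, x.2⟩)⟩⟩
    intro t ht h
    rw [← Subgroup.mem_bot, ← h2]
    exact ⟨ht, by rintro x ⟨S, hS, hx⟩; exact (h S hS x hx).symm⟩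
  by_cases h2 : (Fac T H).Nontrivial
  · exact Or.inr ⟨Fac T H, fun S hS => Fac.le hS, fun S hS => hS.1, hna, fun S hS R hR => Fac.comm hS hR,
      fun h hh S hS => Fac.cj hS hh, h2, hcent⟩
  · have h3 : ∀ S ∈ Fac T H, S = S₀ := fun S hS => Set.not_nontrivial_iff.1 h2 hS hS₀
    exact Or.inl ⟨S₀, Fac.le hS₀, fun h hh x hx => nm_conj (h3 _ (Fac.cj hS₀ hh)) hx, hS₀.1, hna S₀ hS₀,
      fun t ht h => hcent t ht fun S hS => h3 S hS ▸ h⟩

/-- a conjugate of the socle of `H ⊓ T` which lies in `H` is the socle -/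
theorem Sim.mem_of_le (hK : AllK) {G : Type} [Group G] [Finite G] {T H N : Subgroup G} {m : ℕ} (hT : AS T) (hH : Half H m)
    (h : Sim T H N) {g : G} (hg : cj g N ≤ H) : g ∈ H := by
  have := h.simple
  have := hT.normal
  have hn : H ≤ Subgroup.normalizer (N : Set G) := le_normalizer_of_conj h.nrm
  have h0 : N ≠ ⊥ := (Subgroup.nontrivial_iff_ne_bot N).1 inferInstance
  let f : N →* MulAut N := N.normalizerMonoidHom.comp
    (((MulAut.conj g).toMonoidHom.comp N.subtype).codRestrict _ fun x => hn (hg (conj_mem_cj g x.2)))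
  have h1 : ⁅(⊤ : Subgroup N), (⊤ : Subgroup N)⁆ = (⊤ : Subgroup N) := by
    rcases (inferInstance : (⁅(⊤ : Subgroup N), (⊤ : Subgroup N)⁆ : Subgroup N).Normal).eq_bot_or_eq_top with h1 | h1
    · exact absurd ⟨⟨fun x y => (Subgroup.commutator_eq_bot_iff_le_centralizer.1 h1 (Subgroup.mem_top y) x
        (Subgroup.mem_top x))⟩⟩ h.nonab
    · exact h1
  have h2 := Schreier.Assembly.known N h.nonab (hK N) _ (Schreier.Basic.map_perfect f h1)
  rw [← hH.normalizer_eq h0 (h.le.trans inf_le_left) hn]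
  refine nm_iff.2 (nm_of_conj fun x hx => ?_)
  obtain ⟨n, hn⟩ := h2 ⟨⟨x, hx⟩, Subgroup.mem_top _, rfl⟩
  have h3 := h.cent ((n : G)⁻¹ * (g * x * g⁻¹))
    (mul_mem (inv_mem (h.le n.2).2) (hT.normal.conj_mem x (h.le hx).2 g)) fun y hy => by
      have h4 := congrArg Subtype.val (DFunLike.congr_fun hn ⟨y, hy⟩)
      have h3 : (n : G) * y * (n : G)⁻¹ = g * x * g⁻¹ * y * (g * x * g⁻¹)⁻¹ := h4
      calc (n : G)⁻¹ * (g * x * g⁻¹) * y = (n : G)⁻¹ * (g * x * g⁻¹ * y * (g * x * g⁻¹)⁻¹) * (g * x * g⁻¹) := by group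
        _ = y * ((n : G)⁻¹ * (g * x * g⁻¹)) := by rw [← h3]; group
  rw [inv_mul_eq_one] at h3
  exact h3 ▸ n.2

theorem Sv.boxE : BoxE := by
  intro hK G _ _ T H N m hT hH h g hg
  have hN : N ≤ H := h.le.trans inf_le_left
  refine ⟨?_, hH.relIndex_dvd_d hN (le_normalizer_of_conj h.nrm) g, ?_⟩
  · have h1 : (cj g H).relIndex N ≠ 0 := Subgroup.index_ne_zero_of_finite
    have h2 : (cj g H).relIndex N ≠ 1 := fun e => hg (inv_mem_iff.1 (h.mem_of_le hK hT hH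
      ((cj_le_iff _).2 (by rw [inv_inv]; exact Subgroup.relIndex_eq_one.1 e))))
    omega
  · have h1 := Subgroup.relIndex_inf_mul_relIndex (cj g H) N H
    rw [inf_eq_left.2 hN] at h1
    rw [h1, ← hH.relIndex_eq hg]
    exact Subgroup.relIndex_dvd_of_le_left _ inf_le_left

end Cfsg.Agent.TH
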