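import Cfsg.Agent.TH.Sv.Defs

/-!
# S3541: the numerical sieve, the checker (helper74)

* `NecX` : `Nec` with the numbers of Sylow subgroups as parameters;
* `test` : a Boolean test which holds under `NecX`;
* `sieveG` : no triple `(a, o, d)` passes; `sieveG_sound`.

All functions are written with the recursors and evaluate fast under `decide +kernel`.
-/

set_option autoImplicit false

namespace Cfsg.Agent.TH.Sv

/-- `Nec` with the numbers `νA s`, `νH s` of Sylow `s`-subgroups of `H ⊓ T` and of `H` as parameters -/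
structure NecX (N a o d cG cA : ℕ) (cS νA νH : ℕ → ℕ) : Prop where
  a_dvd : a ∣ N
  d_dvd : d ∣ a * o
  d_dvd' : d ∣ N / a - 1
  two_le : 2 ≤ d
  two_mul : 2 * d ≤ N / a - 1
  m_le : 2 ≤ a * o / d
  gcd : Nat.gcd a d ≠ 1
  even : 2 ∣ N / a * d
  prime_le : ∀ s, s.Prime → s ∣ a * o → s ≤ d
  sigG : (a * o / d - 1) * cG ≤ (a * o - 1) ^ 2
  sigA : (a / Nat.gcd a d - 1) * cA ≤ (a - 1) ^ 2
  sigA' : (a * o / d / Nat.gcd (a * o / d) o - 1) * cA ≤ (a - 1) ^ 2
  numA : SylNum a νA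
  numH : SylNum (a * o) νH
  sylA : ∀ s, s.Prime → s ∣ a → ¬ s ∣ d → cS s ≤ νA s * min (νA s) (Nat.gcd a d)
  lin : ∃ r : ℕ,
    (∀ s, s.Prime → s ∣ a * o → ¬ s ∣ d → cS s ≤ νH s * min (νH s) d ∧ N / a - 1 ≤ d * (r - 1) ∧
      r ≤ d * ∏ t ∈ (a * o / d).primeFactors.erase s, gb t ((a * o).factorization t) ((a * o / d).factorization t) * νH t) ∧
    r ≤ ∏ t ∈ (a * o / d).primeFactors, gb t ((a * o).factorization t) ((a * o / d).factorization t) * νH t ∧
    N / a - 1 ≤ r * (r - 1)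

theorem NecX.nec {N a o d cG cA : ℕ} {cS νA νH : ℕ → ℕ} (h : NecX N a o d cG cA cS νA νH) : Nec N a o d cG cA cS :=
  ⟨h.a_dvd, h.d_dvd, h.d_dvd', h.two_le, h.two_mul, h.m_le, h.gcd, h.even, h.prime_le, h.sigG, h.sigA, h.sigA',
    ⟨νA, h.numA, h.sylA⟩, let ⟨r, hr⟩ := h.lin; ⟨νH, r, h.numH, hr⟩⟩

theorem Nec.necX {N a o d cG cA : ℕ} {cS : ℕ → ℕ} (h : Nec N a o d cG cA cS) : ∃ νA νH, NecX N a o d cG cA cS νA νH :=
  let ⟨νA, h1, h2⟩ := h.sylA
  let ⟨νH, r, h3, h4⟩ := h.lin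
  ⟨νA, νH, h.a_dvd, h.d_dvd, h.d_dvd', h.two_le, h.two_mul, h.m_le, h.gcd, h.even, h.prime_le, h.sigG, h.sigA, h.sigA',
    h1, h3, h2, r, h4⟩

/-- [SV-X] the conditions hold with the true numbers of Sylow subgroups -/
def BoxNecX : Prop := ∀ (G : Type) [Group G] [Finite G] (T H : Subgroup G) (m cG cA : ℕ) (cS : ℕ → ℕ), AS T → Half H m →
  (∀ x ∈ H, x ≠ 1 → cG ≤ (Subgroup.centralizer {x}).relIndex T) →
  (∀ x ∈ H ⊓ T, x ≠ 1 → cA ≤ (Subgroup.centralizer {x}).relIndex T) →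
  (∀ s, s.Prime → ∀ P : Subgroup G, P ≤ H → P ≠ ⊥ → IsPGroup s P → cS s ≤ (Subgroup.normalizer (P : Set G)).relIndex T) →
  NecX (Nat.card T) (Nat.card ↥(H ⊓ T)) T.index (Nat.card H / m) cG cA cS
    (fun s => Nat.card (Sylow s ↥(H ⊓ T))) (fun s => Nat.card (Sylow s H))

theorem boxNec_of_X (h : BoxNecX) : BoxNec := fun G _ _ T H m cG cA cS hT hH h1 h2 h3 =>
  (h G T H m cG cA cS hT hH h1 h2 h3).nec

/-! ### evaluation tools -/

/-- evaluate `n` first -/
def frc {α : Type} (n : ℕ) (f : ℕ → α) : α := Nat.rec (motive := fun _ => α) (f 0) (fun k _ => f (Nat.succ k)) n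

theorem frc_eq {α : Type} (n : ℕ) (f : ℕ → α) : frc n f = f n := by cases n <;> rfl

/-- `∀ s ∈ l, f s` -/
def allL (l : List ℕ) (f : ℕ → Bool) : Bool := List.rec (motive := fun _ => Bool) true (fun s _ ih => f s && ih) l

theorem allL_iff (l : List ℕ) (f : ℕ → Bool) : allL l f = true ↔ ∀ s ∈ l, f s = true := by
  induction l with
  | nil => simp [allL]
  | cons s l ih =>
    rw [show allL (s :: l) f = (f s && allL l f) from rfl, Bool.and_eq_true, ih, List.forall_mem_cons]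

/-- `∏ s ∈ l, f s` -/
def prodL (l : List ℕ) (f : ℕ → ℕ) : ℕ := List.rec (motive := fun _ => ℕ) 1 (fun s _ ih => f s * ih) l

theorem prodL_eq (l : List ℕ) (f : ℕ → ℕ) : prodL l f = (l.map f).prod := by
  induction l with
  | nil => rfl
  | cons s l ih => rw [show prodL (s :: l) f = f s * prodL l f from rfl, ih, List.map_cons, List.prod_cons]

theorem prod_le_list (l : List ℕ) (f : ℕ → ℕ) (hf : ∀ s ∈ l, 1 ≤ f s) (S : Finset ℕ) (hS : ∀ s ∈ S, s ∈ l) :
    ∏ s ∈ S, f s ≤ (l.map f).prod := by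
  induction l generalizing S with
  | nil =>
    rw [Finset.eq_empty_of_forall_notMem fun s hs => List.not_mem_nil (hS s hs)]
    simp
  | cons t l ih =>
    have h1 := ih (fun s hs => hf s (List.mem_cons_of_mem _ hs)) (S.erase t) fun s hs =>
      (List.mem_cons.1 (hS s (Finset.mem_of_mem_erase hs))).resolve_left (Finset.ne_of_mem_erase hs)
    rw [List.map_cons, List.prod_cons]
    by_cases ht : t ∈ S
    · rw [← Finset.mul_prod_erase S f ht]
      exact Nat.mul_le_mul_left _ h1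
    · rw [Finset.erase_eq_of_notMem ht] at h1
      exact h1.trans (Nat.le_mul_of_pos_left _ (hf t List.mem_cons_self))

/-- `k (acc * s ^ j)` for all `s ^ j ∣ x` -/
def pwL (s : ℕ) (k : ℕ → Bool) (fuel : ℕ) : ℕ → ℕ → Bool :=
  Nat.rec (motive := fun _ => ℕ → ℕ → Bool) (fun _ _ => false)
    (fun _ ih x acc => k acc && (bif Nat.beq (x % s) 0 then frc (x / s) fun x' => frc (acc * s) fun acc' => ih x' acc'
      else true)) fuel

theorem pwL_sound (s : ℕ) (k : ℕ → Bool) (fuel x acc : ℕ) (h : pwL s k fuel x acc = true) (j : ℕ) (hj : s ^ j ∣ x) :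
    k (acc * s ^ j) = true := by
  induction fuel generalizing x acc j with
  | zero => exact absurd h Bool.false_ne_true
  | succ f ih =>
    have h1 : (k acc && (bif Nat.beq (x % s) 0 then frc (x / s) fun x' => frc (acc * s) fun acc' => pwL s k f x' acc'
      else true)) = true := h
    rw [Bool.and_eq_true, frc_eq, frc_eq] at h1
    cases j with
    | zero => simpa using h1.1
    | succ j =>
      have h2 : x % s = 0 := Nat.mod_eq_zero_of_dvd ((Dvd.intro_left _ (pow_succ s j).symm).trans hj)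
      have h3 := h1.2
      rw [h2] at h3
      have h4 := ih _ _ h3 j (Nat.dvd_div_of_mul_dvd (by rwa [← pow_succ']))
      rwa [mul_assoc, ← pow_succ'] at h4

/-- `f (acc * y)` for all divisors `y` of `x` whose prime factors lie in `ps` -/
def allDiv (ps : List ℕ) (x : ℕ) (f : ℕ → Bool) : ℕ → Bool :=
  List.rec (motive := fun _ => ℕ → Bool) f (fun s _ ih acc => pwL s ih 5000 x acc) ps

theorem allDiv_sound (ps : List ℕ) (hps : ∀ s ∈ ps, s.Prime) (x : ℕ) (f : ℕ → Bool) (acc : ℕ)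
    (h : allDiv ps x f acc = true) (y : ℕ) (hy : y ∣ x) (h0 : y ≠ 0) (hc : ∀ s, s.Prime → s ∣ y → s ∈ ps) :
    f (acc * y) = true := by
  induction ps generalizing acc y with
  | nil =>
    have h1 : y = 1 := by
      by_contra h1
      obtain ⟨s, hs, h2⟩ := Nat.exists_prime_and_dvd h1
      exact List.not_mem_nil (hc s hs h2)
    rw [h1, mul_one]
    exact h
  | cons s l ih =>
    obtain ⟨j, y', h1, rfl⟩ := Nat.exists_eq_pow_mul_and_not_dvd h0 s (hps s List.mem_cons_self).ne_one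
    have h2 := pwL_sound s (allDiv l x f) 5000 x acc h j ((Dvd.intro _ rfl).trans hy)
    rw [← mul_assoc]
    refine ih (fun t ht => hps t (List.mem_cons_of_mem _ ht)) _ h2 y' ((Dvd.intro_left _ rfl).trans hy)
      (right_ne_zero_of_mul h0) fun t ht h3 => ?_
    exact (List.mem_cons.1 (hc t ht (h3.mul_left _))).resolve_left fun h4 => h1 (h4 ▸ h3)

/-- the `s'`-part of `x` -/
def cop (s x : ℕ) : ℕ := x / Nat.gcd x (s ^ Nat.log2 x)

theorem gcd_pow_log {s x : ℕ} (hs : s.Prime) (hx : x ≠ 0) : Nat.gcd x (s ^ Nat.log2 x) = s ^ x.factorization s := by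
  have h1 : x.factorization s ≤ Nat.log2 x := by
    rw [Nat.le_log2 hx]
    exact (Nat.pow_le_pow_left hs.two_le _).trans (Nat.ordProj_le s hx)
  refine Nat.dvd_antisymm ?_ (Nat.dvd_gcd (Nat.ordProj_dvd x s) (pow_dvd_pow s h1))
  obtain ⟨j, -, hj⟩ := (Nat.dvd_prime_pow hs).1 (Nat.gcd_dvd_right x (s ^ Nat.log2 x))
  rw [hj]
  exact pow_dvd_pow s ((hs.pow_dvd_iff_le_factorization hx).1 (hj ▸ Nat.gcd_dvd_left _ _))

theorem cop_eq {s x : ℕ} (hs : s.Prime) (hx : x ≠ 0) : cop s x = x / s ^ x.factorization s := by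
  rw [cop, gcd_pow_log hs hx]

/-- the continuation `k` holds for the list of the prime factors of `x` (trial division from `s` on) -/
def pfK (k : List ℕ → Bool) (fuel : ℕ) : ℕ → ℕ → List ℕ → Bool :=
  Nat.rec (motive := fun _ => ℕ → ℕ → List ℕ → Bool) (fun _ _ _ => false)
    (fun _ ih s x acc => bif Nat.ble (s * s) x then
        (bif Nat.beq (x % s) 0 then frc (cop s x) fun x' => frc (s + 1) fun s' => ih s' x' (s :: acc)
        else frc (s + 1) fun s' => ih s' x acc)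
      else bif Nat.ble x 1 then k acc else k (x :: acc)) fuel

theorem pfK_sound (k : List ℕ → Bool) (fuel s x : ℕ) (acc : List ℕ) (h : pfK k fuel s x acc = true) (hs : 2 ≤ s)
    (hx : x ≠ 0) (hl : ∀ r, r.Prime → r ∣ x → s ≤ r) (hacc : ∀ r ∈ acc, r.Prime) :
    ∃ ps, k ps = true ∧ (∀ r ∈ ps, r.Prime) ∧ ∀ r, r ∈ acc ∨ r.Prime ∧ r ∣ x → r ∈ ps := by
  induction fuel generalizing s x acc with
  | zero => exact absurd h Bool.false_ne_true
  | succ f ih =>
    have h1 : (bif Nat.ble (s * s) x then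
        (bif Nat.beq (x % s) 0 then frc (cop s x) fun x' => frc (s + 1) fun s' => pfK k f s' x' (s :: acc)
        else frc (s + 1) fun s' => pfK k f s' x acc)
      else bif Nat.ble x 1 then k acc else k (x :: acc)) = true := h
    simp only [frc_eq, Bool.cond_eq_ite, Nat.ble_eq, Nat.beq_eq] at h1
    split_ifs at h1 with h2 h3 h4
    · have h4 : s ∣ x := Nat.dvd_of_mod_eq_zero h3
      have h5 : s.Prime := by
        have h5 := Nat.minFac_prime (show s ≠ 1 by omega)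
        have h6 := hl _ h5 ((Nat.minFac_dvd s).trans h4)
        rwa [le_antisymm (Nat.minFac_le (by omega)) h6] at h5
      rw [cop_eq h5 hx] at h1
      obtain ⟨ps, h6, h7, h8⟩ := ih _ _ _ h1 (by omega) (Nat.ordCompl_pos s hx).ne'
        (fun r hr h6 => lt_of_le_of_ne (hl r hr (h6.trans (Nat.ordCompl_dvd x s))) fun h7 =>
          Nat.not_dvd_ordCompl h5 hx (h7 ▸ h6))
        (List.forall_mem_cons.2 ⟨h5, hacc⟩)
      refine ⟨ps, h6, h7, fun r hr => h8 r ?_⟩
      rcases hr with hr | ⟨hr, h9⟩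
      · exact Or.inl (List.mem_cons_of_mem _ hr)
      · rw [← Nat.ordProj_mul_ordCompl_eq_self x s] at h9
        rcases (Nat.Prime.dvd_mul hr).1 h9 with h9 | h9
        · exact Or.inl (((Nat.prime_dvd_prime_iff_eq hr h5).1 (hr.dvd_of_dvd_pow h9)) ▸ List.mem_cons_self)
        · exact Or.inr ⟨hr, h9⟩
    · exact ih _ _ _ h1 (by omega) hx (fun r hr h6 => lt_of_le_of_ne (hl r hr h6) fun h7 =>
        h3 (Nat.mod_eq_zero_of_dvd (h7 ▸ h6))) hacc
    · refine ⟨acc, h1, hacc, fun r hr => hr.resolve_right fun h5 => ?_⟩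
      have h6 := Nat.le_of_dvd (by omega) h5.2
      have := h5.1.two_le
      omega
    · have h5 : x.Prime := by
        by_contra h5
        have h6 := Nat.minFac_sq_le_self (by omega) h5
        have h7 := hl _ (Nat.minFac_prime (by omega)) (Nat.minFac_dvd x)
        exact h2 ((Nat.mul_le_mul h7 h7).trans (by rwa [← sq]))
      refine ⟨x :: acc, h1, List.forall_mem_cons.2 ⟨h5, hacc⟩, fun r hr => ?_⟩
      rcases hr with hr | ⟨hr, h9⟩
      · exact List.mem_cons_of_mem _ hr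
      · exact ((Nat.prime_dvd_prime_iff_eq hr h5).1 h9) ▸ List.mem_cons_self

/-- the continuation `k` holds for the list of the prime factors of `x ≠ 0` -/
def withPrimes (x : ℕ) (k : List ℕ → Bool) : Bool := frc x fun x => Nat.ble 1 x && pfK k 10000000 2 x []

theorem withPrimes_sound {x : ℕ} {k : List ℕ → Bool} (h : withPrimes x k = true) :
    x ≠ 0 ∧ ∃ ps, k ps = true ∧ (∀ r ∈ ps, r.Prime) ∧ ∀ r, r.Prime → r ∣ x → r ∈ ps := by
  rw [withPrimes, frc_eq, Bool.and_eq_true, Nat.ble_eq] at h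
  obtain ⟨ps, h1, h2, h3⟩ := pfK_sound k _ 2 x [] h.2 le_rfl (by omega) (fun r hr _ => hr.two_le) (by simp)
  exact ⟨by omega, ps, h1, h2, fun r hr h4 => h3 r (Or.inr ⟨hr, h4⟩)⟩

/-- the exponent of `s` in `x` -/
def vl (s x : ℕ) : ℕ :=
  Nat.rec (motive := fun _ => ℕ → ℕ → ℕ) (fun _ j => j)
    (fun _ ih x j => bif Nat.beq (x % s) 0 then frc (x / s) fun x' => frc (j + 1) fun j' => ih x' j' else j)
    (Nat.log2 x) x 0

theorem vl_eq {s x : ℕ} (hs : s.Prime) (hx : x ≠ 0) : vl s x = x.factorization s := by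
  have key : ∀ f x j : ℕ, x ≠ 0 → x.factorization s ≤ f → Nat.rec (motive := fun _ => ℕ → ℕ → ℕ) (fun _ j => j)
      (fun _ ih x j => bif Nat.beq (x % s) 0 then frc (x / s) fun x' => frc (j + 1) fun j' => ih x' j' else j)
      f x j = j + x.factorization s := by
    intro f
    induction f with
    | zero => intro x j _ h; rw [Nat.le_zero.1 h]; rfl
    | succ f ih =>
      intro x j hx h
      simp only [frc_eq, Bool.cond_eq_ite, Nat.beq_eq] at ih ⊢
      split_ifs with h1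
      · obtain ⟨y, rfl⟩ := Nat.dvd_of_mod_eq_zero h1
        have hy : y ≠ 0 := right_ne_zero_of_mul hx
        have h2 : (s * y).factorization s = y.factorization s + 1 := by
          rw [Nat.factorization_mul hs.ne_zero hy, Finsupp.add_apply, hs.factorization_self, add_comm]
        rw [Nat.mul_div_cancel_left _ hs.pos, ih y _ hy (by omega), h2]
        omega
      · rw [Nat.factorization_eq_zero_of_not_dvd fun h2 => h1 (Nat.mod_eq_zero_of_dvd h2), add_zero]
  have h1 : x.factorization s ≤ Nat.log2 x := by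
    rw [Nat.le_log2 hx]
    exact (Nat.pow_le_pow_left hs.two_le _).trans (Nat.ordProj_le s hx)
  exact (key _ x 0 hx h1).trans (zero_add _)

theorem gb_zero_right (s b : ℕ) : gb s b 0 = 1 := by cases b <;> rfl

theorem gb_succ (s b a : ℕ) : gb s (b + 1) (a + 1) = gb s b a + s ^ (a + 1) * gb s b (a + 1) := rfl

theorem gb_eq_zero (s : ℕ) {b a : ℕ} (h : b < a) : gb s b a = 0 := by
  induction b generalizing a with
  | zero =>
    obtain ⟨a, rfl⟩ := Nat.exists_eq_add_of_lt h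
    rfl
  | succ b ih =>
    obtain ⟨a, rfl⟩ : ∃ a', a = a' + 1 := ⟨a - 1, by omega⟩
    rw [gb_succ, ih (by omega), ih (by omega), mul_zero, add_zero]

theorem gb_pos (s : ℕ) {b a : ℕ} (h : a ≤ b) : 1 ≤ gb s b a := by
  induction b generalizing a with
  | zero => rw [Nat.le_zero.1 h, gb_zero_right]
  | succ b ih =>
    cases a with
    | zero => rw [gb_zero_right]
    | succ a => exact (ih (by omega)).trans (Nat.le_add_right _ _)

theorem gb_self (s b : ℕ) : gb s b b = 1 := by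
  induction b with
  | zero => rfl
  | succ b ih => rw [gb_succ, ih, gb_eq_zero s (Nat.lt_succ_self b), mul_zero, add_zero]

theorem gb_mul {s : ℕ} (hs : 1 ≤ s) (b a : ℕ) : gb s b (a + 1) * (s ^ (a + 1) - 1) = gb s b a * (s ^ (b - a) - 1) := by
  have h0 : ∀ k, ((s ^ k - 1 : ℕ) : ℤ) = (s : ℤ) ^ k - 1 := fun k => by
    rw [Nat.cast_sub (Nat.one_le_pow _ _ hs)]; push_cast; rfl
  induction b generalizing a with
  | zero => simp [gb_eq_zero]
  | succ b ih =>
    rcases lt_or_ge b a with h | h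
    · rw [gb_eq_zero s (show b + 1 < a + 1 by omega), show b + 1 - a = 0 by omega]
      simp
    obtain ⟨c, rfl⟩ := Nat.exists_eq_add_of_le h
    have h1 := ih a
    rw [show a + c - a = c by omega] at h1
    rw [show a + c + 1 - a = c + 1 by omega, gb_succ]
    cases a with
    | zero =>
      rw [gb_zero_right] at h1 ⊢
      rw [gb_zero_right]
      zify at h1 ⊢
      rw [h0, h0] at h1 ⊢
      linear_combination (s : ℤ) ^ (0 + 1) * h1
    | succ a =>
      have h2 := ih a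
      rw [show a + 1 + c - a = c + 1 by omega] at h2
      rw [gb_succ]
      zify at h1 h2 ⊢
      rw [h0, h0] at h1 h2 ⊢
      linear_combination (s : ℤ) ^ (a + 1 + 1) * h1 + h2

/-- the Gaussian binomial coefficient by the product formula -/
def gbF (s b a : ℕ) : ℕ :=
  Nat.rec (motive := fun _ => ℕ) 1 (fun i ih => ih * (s ^ (b - i) - 1) / (s ^ (i + 1) - 1)) a

theorem gbF_eq {s : ℕ} (hs : 2 ≤ s) (b a : ℕ) : gbF s b a = gb s b a := by
  induction a with
  | zero => rw [gb_zero_right]; rfl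
  | succ a ih =>
    rw [show gbF s b (a + 1) = gbF s b a * (s ^ (b - a) - 1) / (s ^ (a + 1) - 1) from rfl, ih, ← gb_mul (by omega),
      Nat.mul_div_cancel _ (Nat.sub_pos_of_lt (Nat.one_lt_pow (by omega) hs))]

/-- an upper bound for the divisors of `x` which are `1` modulo `s` : the cofactors `t, t + 1, …` are tried -/
def nuL (s x : ℕ) (fuel : ℕ) : ℕ → ℕ :=
  Nat.rec (motive := fun _ => ℕ → ℕ) (fun t => x / t)
    (fun _ ih t => bif Nat.beq (x % t) 0 && Nat.beq (x / t % s) 1 then x / t else frc (t + 1) ih) fuel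

theorem le_nuL {s x ν u : ℕ} (hx : x = ν * u) (hν : ν % s = 1) (fuel t : ℕ) (h0 : 0 < t) (ht : t ≤ u) :
    ν ≤ nuL s x fuel t := by
  have key : ∀ t, 0 < t → t ≤ u → ν ≤ x / t := fun t h0 ht =>
    (Nat.le_div_iff_mul_le h0).2 (hx ▸ Nat.mul_le_mul_left _ ht)
  induction fuel generalizing t with
  | zero => exact key t h0 ht
  | succ f ih =>
    rw [show nuL s x (f + 1) t = bif Nat.beq (x % t) 0 && Nat.beq (x / t % s) 1 then x / t
      else frc (t + 1) (nuL s x f) from rfl, frc_eq, Bool.cond_eq_ite]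
    split_ifs with h1
    · exact key t h0 ht
    · refine ih _ (by omega) (lt_of_le_of_ne ht fun h2 => h1 ?_)
      subst h2
      rw [Bool.and_eq_true, Nat.beq_eq, Nat.beq_eq, hx, Nat.mul_mod_left, Nat.mul_div_cancel _ h0]
      exact ⟨rfl, hν⟩

/-- an upper bound for the number of Sylow `s`-subgroups of a group of order `h` -/
def nu (B h s : ℕ) : ℕ := frc (cop s h) fun x => nuL s x B 1

theorem SylNum.pos {h : ℕ} {ν : ℕ → ℕ} (hν : SylNum h ν) {s : ℕ} (hs : s.Prime) : 1 ≤ ν s := by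
  by_contra h1
  have h2 := (hν s hs).2
  rw [show ν s = 0 by omega] at h2
  simp at h2

theorem SylNum.le_nu {h : ℕ} {ν : ℕ → ℕ} (hν : SylNum h ν) (h0 : h ≠ 0) (B : ℕ) {s : ℕ} (hs : s.Prime) :
    ν s ≤ nu B h s := by
  obtain ⟨⟨u, hu⟩, h2⟩ := hν s hs
  rw [nu, frc_eq, cop_eq hs h0]
  refine le_nuL hu h2 B 1 one_pos (Nat.pos_of_ne_zero fun h3 => ?_)
  rw [h3, mul_zero] at hu
  exact (Nat.ordCompl_pos s h0).ne' hu

/-- the minimum -/
def mn (x y : ℕ) : ℕ := frc x fun x => frc y fun y => bif Nat.ble x y then x else y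

theorem mn_eq (x y : ℕ) : mn x y = min x y := by
  rw [mn, frc_eq, frc_eq, Bool.cond_eq_ite, min_def]
  simp only [Nat.ble_eq]

/-- the bound `nu`, cut by `cap` unless `cap = 0` -/
def nuC (B h s cap : ℕ) : ℕ := frc cap fun cap => bif Nat.beq cap 0 then nu B h s else mn cap (nu B h s)

theorem SylNum.le_nuC {h : ℕ} {ν : ℕ → ℕ} (hν : SylNum h ν) (h0 : h ≠ 0) (B : ℕ) {s cap : ℕ} (hs : s.Prime)
    (hc : cap ≠ 0 → ν s ≤ cap) : ν s ≤ nuC B h s cap := by
  rw [nuC, frc_eq, Bool.cond_eq_ite, mn_eq]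
  split_ifs with h1
  · exact hν.le_nu h0 B hs
  · exact le_min (hc fun h2 => h1 (by rw [h2]; rfl)) (hν.le_nu h0 B hs)

/-- the factor of the prime `t` in the bound for the number of lines -/
def trm (B h m t cap : ℕ) : ℕ :=
  bif Nat.beq (m % t) 0 then (frc (vl t h) fun b => frc (vl t m) fun a => gbF t b a) * nuC B h t cap else 1

/-! ### the test -/

/-- the cheap conditions, `n1 = N / a - 1` -/
def test0 (ps : List ℕ) (n1 a o d cG cA : ℕ) : Bool :=
  frc (a * o) fun h => frc (h / d) fun m => frc (Nat.gcd a d) fun g =>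
    Nat.ble 2 d && (Nat.ble (2 * d) n1 && (Nat.ble 2 m && (!Nat.beq g 1 && (Nat.beq ((n1 + 1) * d % 2) 0 &&
    (Nat.ble ((m - 1) * cG) ((h - 1) ^ 2) && (Nat.ble ((a / g - 1) * cA) ((a - 1) ^ 2) &&
    (Nat.ble ((m / Nat.gcd m o - 1) * cA) ((a - 1) ^ 2) && allL ps fun s => Nat.ble s d || !Nat.beq (h % s) 0)))))))

/-- the conditions on the Sylow subgroups -/
def test1 (B : ℕ) (ps : List ℕ) (n1 a o d : ℕ) (cS uA uH : ℕ → ℕ) : Bool :=
  frc (a * o) fun h => frc (h / d) fun m => frc (Nat.gcd a d) fun g =>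
    (allL ps fun s => Nat.beq (d % s) 0 || (!Nat.beq (a % s) 0 ||
      frc (nuC B a s (uA s)) fun ν => Nat.ble (cS s) (ν * mn ν g))) &&
    ((allL ps fun s => Nat.beq (d % s) 0 || (!Nat.beq (h % s) 0 ||
      frc (nuC B h s (uH s)) fun ν => Nat.ble (cS s) (ν * mn ν d))) &&
    frc (prodL ps fun t => trm B h m t (uH t)) fun R => Nat.ble n1 (R * (R - 1)) &&
      allL ps fun s => Nat.beq (d % s) 0 || (!Nat.beq (h % s) 0 ||
        frc (mn R (d * (R / trm B h m s (uH s)))) fun r => Nat.ble n1 (d * (r - 1)) && Nat.ble n1 (r * (r - 1))))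

/-- the test; `B` bounds the search for the largest possible number of Sylow subgroups, `uA s`, `uH s` are known upper
bounds for these numbers (`0` : none) -/
def test (B : ℕ) (ps : List ℕ) (n1 a o d cG cA : ℕ) (cS uA uH : ℕ → ℕ) : Bool :=
  test0 ps n1 a o d cG cA && (test1 0 ps n1 a o d cS uA uH && test1 B ps n1 a o d cS uA uH)

variable {N a o d cG cA : ℕ} {cS νA νH uA uH : ℕ → ℕ} {ps : List ℕ}

theorem NecX.ne_zero (h : NecX N a o d cG cA cS νA νH) : a * o ≠ 0 := fun h1 => by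
  have := h.m_le
  rw [h1, Nat.zero_div] at this
  omega

theorem NecX.n_eq (h : NecX N a o d cG cA cS νA νH) : N / a - 1 + 1 = N / a := by
  have := h.two_le
  have := h.two_mul
  omega

theorem NecX.test0 (h : NecX N a o d cG cA cS νA νH) (hps : ∀ s ∈ ps, s.Prime) :
    test0 ps (N / a - 1) a o d cG cA = true := by
  simp only [Sv.test0, frc_eq, Bool.and_eq_true, Nat.ble_eq, Nat.beq_eq, allL_iff, Bool.or_eq_true, Bool.not_eq_true',
    ← Bool.not_eq_true, h.n_eq]
  refine ⟨h.two_le, h.two_mul, h.m_le, h.gcd, Nat.mod_eq_zero_of_dvd h.even, h.sigG, h.sigA, h.sigA', fun s hs => ?_⟩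
  by_cases h1 : a * o % s = 0
  · exact Or.inl (h.prime_le s (hps s hs) (Nat.dvd_of_mod_eq_zero h1))
  · exact Or.inr h1

theorem NecX.test1 (h : NecX N a o d cG cA cS νA νH) (hps : ∀ s ∈ ps, s.Prime)
    (hc : ∀ s, s.Prime → s ∣ a * o → s ∈ ps) (hA : ∀ s, s.Prime → s ∣ a → uA s ≠ 0 → νA s ≤ uA s)
    (hH : ∀ s, s.Prime → s ∣ a * o → uH s ≠ 0 → νH s ≤ uH s) (B : ℕ) :
    test1 B ps (N / a - 1) a o d cS uA uH = true := by
  have h0 := h.ne_zero
  have ha : a ≠ 0 := left_ne_zero_of_mul h0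
  have hm : a * o / d ≠ 0 := by have := h.m_le; omega
  have hmd : a * o / d ∣ a * o := Nat.div_dvd_of_dvd h.d_dvd
  obtain ⟨r, h1, h2, h3⟩ := h.lin
  set f : ℕ → ℕ := fun t => trm B (a * o) (a * o / d) t (uH t) with hf
  have hf1 : ∀ t, t.Prime → t ∣ a * o / d →
      gb t ((a * o).factorization t) ((a * o / d).factorization t) * νH t ≤ f t := fun t ht h4 => by
    simp only [hf, trm, frc_eq, Nat.mod_eq_zero_of_dvd h4, vl_eq ht h0, vl_eq ht hm, gbF_eq ht.two_le]
    exact Nat.mul_le_mul_left _ (h.numH.le_nuC h0 B ht (hH t ht (h4.trans hmd)))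
  have hf2 : ∀ t ∈ ps, 1 ≤ f t := fun t ht => by
    by_cases h4 : t ∣ a * o / d
    · refine le_trans ?_ (hf1 t (hps t ht) h4)
      exact Nat.mul_pos (gb_pos t ((Nat.factorization_le_iff_dvd hm h0).2 hmd t)) (h.numH.pos (hps t ht))
    · have h5 : Nat.beq (a * o / d % t) 0 = false := by
        rw [← Bool.not_eq_true, Nat.beq_eq]
        exact fun h5 => h4 (Nat.dvd_of_mod_eq_zero h5)
      simp only [hf, trm, h5]
      exact le_rfl
  have hf3 : ∀ S : Finset ℕ, S ⊆ (a * o / d).primeFactors →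
      ∏ t ∈ S, gb t ((a * o).factorization t) ((a * o / d).factorization t) * νH t ≤ ∏ t ∈ S, f t := fun S hS =>
    Finset.prod_le_prod' fun t ht => hf1 t (Nat.prime_of_mem_primeFactors (hS ht)) (Nat.dvd_of_mem_primeFactors (hS ht))
  have hf4 : ∀ t ∈ (a * o / d).primeFactors, t ∈ ps := fun t ht =>
    hc t (Nat.prime_of_mem_primeFactors ht) ((Nat.dvd_of_mem_primeFactors ht).trans hmd)
  have hR : r ≤ (ps.map f).prod := (h2.trans (hf3 _ le_rfl)).trans (prod_le_list ps f hf2 _ hf4)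
  have hq : ∀ R, r ≤ R → N / a - 1 ≤ R * (R - 1) := fun R hR =>
    h3.trans (Nat.mul_le_mul hR (Nat.sub_le_sub_right hR 1))
  simp only [Sv.test1, frc_eq, Bool.and_eq_true, Nat.ble_eq, Nat.beq_eq, allL_iff, Bool.or_eq_true, Bool.not_eq_true',
    ← Bool.not_eq_true, mn_eq, prodL_eq, or_iff_not_imp_left, not_not]
  refine ⟨fun s hs h4 h5 => ?_, fun s hs h4 h5 => ?_, hq _ hR, fun s hs h4 h5 => ?_⟩
  · have h6 := Nat.dvd_of_mod_eq_zero h5
    have h7 := h.numA.le_nuC ha B (hps s hs) (hA s (hps s hs) h6)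
    exact (h.sylA s (hps s hs) h6 fun h8 => h4 (Nat.mod_eq_zero_of_dvd h8)).trans
      (Nat.mul_le_mul h7 (min_le_min_right _ h7))
  · have h6 := Nat.dvd_of_mod_eq_zero h5
    have h7 := h.numH.le_nuC h0 B (hps s hs) (hH s (hps s hs) h6)
    exact (h1 s (hps s hs) h6 fun h8 => h4 (Nat.mod_eq_zero_of_dvd h8)).1.trans
      (Nat.mul_le_mul h7 (min_le_min_right _ h7))
  · obtain ⟨-, h6, h7⟩ := h1 s (hps s hs) (Nat.dvd_of_mod_eq_zero h5) fun h8 => h4 (Nat.mod_eq_zero_of_dvd h8)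
    have h8 : (ps.map f).prod / f s = ((ps.erase s).map f).prod := by
      rw [((List.perm_cons_erase hs).map f).prod_eq, List.map_cons, List.prod_cons,
        Nat.mul_div_cancel_left _ (hf2 s hs)]
    have h9 : r ≤ min (ps.map f).prod (d * ((ps.map f).prod / f s)) := by
      refine le_min hR (h7.trans (Nat.mul_le_mul_left _ ((hf3 _ (Finset.erase_subset _ _)).trans ?_)))
      rw [h8]
      exact prod_le_list _ f (fun t ht => hf2 t (List.mem_of_mem_erase ht)) _ fun t ht =>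
        (List.mem_erase_of_ne (Finset.ne_of_mem_erase ht)).2 (hf4 t (Finset.mem_of_mem_erase ht))
    exact ⟨h6.trans (Nat.mul_le_mul_left _ (Nat.sub_le_sub_right h9 1)), hq _ h9⟩

theorem NecX.test (h : NecX N a o d cG cA cS νA νH) (hps : ∀ s ∈ ps, s.Prime)
    (hc : ∀ s, s.Prime → s ∣ a * o → s ∈ ps) (hA : ∀ s, s.Prime → s ∣ a → uA s ≠ 0 → νA s ≤ uA s)
    (hH : ∀ s, s.Prime → s ∣ a * o → uH s ≠ 0 → νH s ≤ uH s) (B : ℕ) :
    test B ps (N / a - 1) a o d cG cA cS uA uH = true := by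
  rw [Sv.test, h.test0 hps, h.test1 hps hc hA hH, h.test1 hps hc hA hH]
  rfl

/-- the test for one triple, with the primes found by trial division: `false` excludes the triple -/
def test3 (B N a o d cG cA : ℕ) (cS uA uH : ℕ → ℕ) : Bool :=
  !withPrimes (a * o) fun ps => frc (N / a - 1) fun n1 => !test B ps n1 a o d cG cA cS uA uH

theorem NecX.test3 (h : NecX N a o d cG cA cS νA νH) (hA : ∀ s, s.Prime → s ∣ a → uA s ≠ 0 → νA s ≤ uA s)
    (hH : ∀ s, s.Prime → s ∣ a * o → uH s ≠ 0 → νH s ≤ uH s) (B : ℕ) : test3 B N a o d cG cA cS uA uH = true := by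
  rw [Sv.test3, Bool.not_eq_true', ← Bool.not_eq_true]
  intro h1
  obtain ⟨-, ps, h2, h3, h4⟩ := withPrimes_sound h1
  rw [frc_eq, h.test h3 h4 hA hH] at h2
  exact Bool.false_ne_true h2

/-! ### the sieve -/

/-- the data of a sieve; the bounds may depend on `a` and `o` -/
structure Par where
  /-- the order of the socle -/
  N : ℕ
  /-- a divisor of the degree (the characteristic, or `1`) -/
  p : ℕ
  /-- a multiple of `|G : T|` -/
  outT : ℕ
  /-- a lower bound for the degree -/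
  c : ℕ
  /-- a multiple of `|H ⊓ T|` -/
  NB : ℕ
  /-- a divisor of `|H ⊓ T|` -/
  low : ℕ := 1
  /-- the length of the search for the numbers of Sylow subgroups -/
  B : ℕ := 400
  cG : ℕ → ℕ → ℕ := fun _ _ => c
  cA : ℕ → ℕ → ℕ := fun _ _ => c
  cS : ℕ → ℕ → ℕ → ℕ := fun _ _ _ => c
  uA : ℕ → ℕ → ℕ → ℕ := fun _ _ _ => 0
  uH : ℕ → ℕ → ℕ → ℕ := fun _ _ _ => 0
  /-- a further necessary condition on `a` and `n - 1` -/
  fa : ℕ → ℕ → Bool := fun _ _ => true
  /-- a further necessary condition on `a`, `o`, `d` -/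
  flt : ℕ → ℕ → ℕ → Bool := fun _ _ _ => true

/-- the loop over `d` -/
def loopD (P : Par) (ps : List ℕ) (n1 a o : ℕ) : Bool :=
  frc (a * o) fun h => frc (Nat.gcd h n1) fun D => frc (P.cG a o) fun cG => frc (P.cA a o) fun cA =>
    !Nat.ble ((h / D - 1) * cG) ((h - 1) ^ 2) || (!Nat.ble cG ((h - 1) ^ 2) ||
      (!Nat.ble ((a / Nat.gcd a D - 1) * cA) ((a - 1) ^ 2) ||
        allDiv ps D (fun d => !(P.flt a o d && test P.B ps n1 a o d cG cA (P.cS a o) (P.uA a o) (P.uH a o))) 1))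

/-- the loop over `o` -/
def loopO (P : Par) (ps : List ℕ) (a : ℕ) : Bool :=
  frc (P.N / a) fun n => frc (n - 1) fun n1 =>
    !Nat.beq (n % P.p) 0 || (!Nat.ble P.c n || (Nat.beq (Nat.gcd a n1) 1 || (!P.fa a n1 ||
      allDiv ps P.outT (loopD P ps n1 a) 1)))

/-- no triple `(a, o, d)` passes; `N`, `outT` are evaluated first -/
def sieveG (P : Par) : Bool :=
  frc P.N fun N => frc P.outT fun outT => frc P.c fun c => frc P.p fun p => frc P.low fun low =>
  frc (Nat.gcd N P.NB) fun g => !Nat.beq (g % low) 0 ||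
    withPrimes (g * outT) fun ps => frc (g / low) fun x =>
      allDiv ps x (loopO ⟨N, p, outT, c, P.NB, low, P.B, P.cG, P.cA, P.cS, P.uA, P.uH, P.fa, P.flt⟩ ps) low

theorem sieveG_sound (P : Par) (hs : sieveG P = true)
    (h : NecX P.N a o d (P.cG a o) (P.cA a o) (P.cS a o) νA νH) (hp : P.p ∣ P.N / a) (ho : o ∣ P.outT)
    (hc : P.c ≤ P.N / a) (hNB : a ∣ P.NB) (hlow : P.low ∣ a)
    (hA : ∀ s, s.Prime → s ∣ a → P.uA a o s ≠ 0 → νA s ≤ P.uA a o s)
    (hH : ∀ s, s.Prime → s ∣ a * o → P.uH a o s ≠ 0 → νH s ≤ P.uH a o s)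
    (hfa : P.fa a (P.N / a - 1) = true) (hflt : P.flt a o d = true) : False := by
  have h0 := h.ne_zero
  have ha : a ≠ 0 := left_ne_zero_of_mul h0
  have hg : a ∣ Nat.gcd P.N P.NB := Nat.dvd_gcd h.a_dvd hNB
  simp only [sieveG, frc_eq, Nat.mod_eq_zero_of_dvd (hlow.trans hg), Nat.beq_refl, Bool.not_true, Bool.false_or] at hs
  obtain ⟨-, ps, h1, hps, hcov⟩ := withPrimes_sound hs
  have hcov' : ∀ s, s.Prime → s ∣ a * o → s ∈ ps := fun s hs h2 => hcov s hs (h2.trans (Nat.mul_dvd_mul hg ho))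
  obtain ⟨y, rfl⟩ := hlow
  have h2 := allDiv_sound ps hps _ _ _ h1 y (Nat.dvd_div_of_mul_dvd hg) (right_ne_zero_of_mul ha)
    fun s hs h2 => hcov' s hs ((h2.mul_left _).mul_right _)
  set a := P.low * y
  have hgd : Nat.gcd a d ∣ Nat.gcd a (P.N / a - 1) := Nat.gcd_dvd_gcd_of_dvd_right a h.d_dvd'
  have h3 : Nat.beq (Nat.gcd a (P.N / a - 1)) 1 = false := by
    rw [← Bool.not_eq_true, Nat.beq_eq]
    exact fun h3 => h.gcd (Nat.dvd_one.1 (h3 ▸ hgd))
  simp only [loopO, frc_eq, Nat.mod_eq_zero_of_dvd hp, Nat.beq_refl, Bool.not_true, Bool.false_or, Nat.ble_eq_true_of_le hc,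
    h3, hfa] at h2
  have h4 := allDiv_sound ps hps _ _ _ h2 o ho (right_ne_zero_of_mul h0) fun s hs h4 => hcov' s hs (h4.mul_left _)
  have hD : d ∣ Nat.gcd (a * o) (P.N / a - 1) := Nat.dvd_gcd h.d_dvd h.d_dvd'
  have hD0 : 0 < Nat.gcd (a * o) (P.N / a - 1) := Nat.gcd_pos_of_pos_left _ (Nat.pos_of_ne_zero h0)
  have hd0 : 0 < d := by have := h.two_le; omega
  have h5 : (a * o / Nat.gcd (a * o) (P.N / a - 1) - 1) * P.cG a o ≤ (a * o - 1) ^ 2 :=
    (Nat.mul_le_mul_right _ (Nat.sub_le_sub_right (Nat.div_le_div_left (Nat.le_of_dvd hD0 hD) hd0) 1)).trans h.sigG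
  have h6 : P.cG a o ≤ (a * o - 1) ^ 2 :=
    (Nat.le_mul_of_pos_left _ (by have := h.m_le; omega)).trans h.sigG
  have h7 : (a / Nat.gcd a (Nat.gcd (a * o) (P.N / a - 1)) - 1) * P.cA a o ≤ (a - 1) ^ 2 :=
    (Nat.mul_le_mul_right _ (Nat.sub_le_sub_right (Nat.div_le_div_left
      (Nat.le_of_dvd (Nat.gcd_pos_of_pos_left _ (Nat.pos_of_ne_zero ha)) (Nat.gcd_dvd_gcd_of_dvd_right a hD))
      (Nat.gcd_pos_of_pos_left _ (Nat.pos_of_ne_zero ha))) 1)).trans h.sigA
  simp only [loopD, frc_eq, one_mul, Nat.ble_eq_true_of_le h5, Nat.ble_eq_true_of_le h6, Nat.ble_eq_true_of_le h7, Bool.not_true,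
    Bool.false_or] at h4
  have h8 := allDiv_sound ps hps _ _ _ h4 d hD hd0.ne' fun s hs h8 => hcov' s hs (h8.trans h.d_dvd)
  simp only [one_mul, hflt, h.test hps hcov' hA hH, Bool.and_self, Bool.not_true] at h8
  exact Bool.false_ne_true h8

end Cfsg.Agent.TH.Sv
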