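import Cfsg.Prelude.Def_GeometricClasses
import Cfsg.Agent.TH.Sv.Defs

/-!
# S3541: the numerical data of a classical socle (captain helper73)

Families: `0 = L`, `1 = U`, `2 = Sp`, `3 = O` (odd dimension), `4 = O⁺`, `5 = O⁻`; `n` is the dimension of the natural module.
-/

set_option autoImplicit false

namespace Cfsg.Agent.TH.Sv

/-- `∏_{i = a}^{a + k - 1} f i` -/
def prd (f : ℕ → ℕ) (a : ℕ) : ℕ → ℕ
  | 0 => 1
  | k + 1 => prd f a k * f (a + k)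

/-- `q ^ i - (-1) ^ i` -/
def um (q i : ℕ) : ℕ := if i % 2 = 0 then q ^ i - 1 else q ^ i + 1

/-- the order -/
def ordCl (t n q : ℕ) : ℕ :=
  if t = 0 then q ^ (n * (n - 1) / 2) * prd (fun i => q ^ i - 1) 2 (n - 1) / Nat.gcd n (q - 1)
  else if t = 1 then q ^ (n * (n - 1) / 2) * prd (um q) 2 (n - 1) / Nat.gcd n (q + 1)
  else if t ≤ 3 then q ^ (n / 2 * (n / 2)) * prd (fun i => q ^ (2 * i) - 1) 1 (n / 2) / Nat.gcd 2 (q - 1)
  else if t = 4 then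
    q ^ (n / 2 * (n / 2 - 1)) * (q ^ (n / 2) - 1) * prd (fun i => q ^ (2 * i) - 1) 1 (n / 2 - 1) / Nat.gcd 4 (q ^ (n / 2) - 1)
  else q ^ (n / 2 * (n / 2 - 1)) * (q ^ (n / 2) + 1) * prd (fun i => q ^ (2 * i) - 1) 1 (n / 2 - 1) / Nat.gcd 4 (q ^ (n / 2) + 1)

/-- the order of the outer automorphism group, `q = p ^ f` -/
def outCl (t n p f : ℕ) : ℕ :=
  (if t = 0 then 2 * Nat.gcd n (p ^ f - 1)
  else if t = 1 then 2 * Nat.gcd n (p ^ f + 1)
  else if t = 2 then (if n = 4 ∧ p = 2 then 2 else 1) * Nat.gcd 2 (p ^ f - 1)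
  else if t = 3 then 2
  else if t = 4 then (if n = 8 then 6 else 2) * Nat.gcd 4 ((p ^ f) ^ (n / 2) - 1)
  else 2 * Nat.gcd 4 ((p ^ f) ^ (n / 2) + 1)) * f

/-- a lower bound for the index of a proper subgroup (S2140 - S2153, `H77.Final.lower`, `H500.AS.plus_three_index_ge`) -/
def lminCl (t n q : ℕ) : ℕ :=
  if t = 0 then (q ^ n - 1) / (q - 1)
  else if t = 1 then
    (if n = 3 then (if q = 5 then 50 else q ^ 3 + 1) else if n = 4 then (q + 1) * (q ^ 3 + 1)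
    else if q = 2 ∧ n % 2 = 0 then 2 ^ (n - 1) * (2 ^ n - 1) / 3 else um q n * um q (n - 1) / (q ^ 2 - 1))
  else if t = 2 then
    (if n = 4 ∧ q = 3 then 27 else if q = 2 then 2 ^ (n / 2 - 1) * (2 ^ (n / 2) - 1) else (q ^ n - 1) / (q - 1))
  else if t = 3 then (if q = 3 then 3 ^ (n / 2) * (3 ^ (n / 2) - 1) / 2 else (q ^ (n - 1) - 1) / (q - 1))
  else if t = 4 then
    (if q = 2 then 2 ^ (n / 2 - 1) * (2 ^ (n / 2) - 1) else if q = 3 then 3 ^ (n / 2 - 1) * (3 ^ (n / 2 - 1) - 1) / 2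
    else (q ^ (n / 2) - 1) * (q ^ (n / 2 - 1) + 1) / (q - 1))
  else (q ^ (n / 2) + 1) * (q ^ (n / 2 - 1) - 1) / (q - 1)

/-- the ranges (without `L₂(q)`, `L₃(2)`, `L₄(2)`) -/
def validCl (t n q : ℕ) : Bool :=
  if t = 0 then decide (3 ≤ n) && !(decide (n ≤ 4) && decide (q = 2))
  else if t = 1 then decide (3 ≤ n) && !(decide (n = 3) && decide (q = 2))
  else if t = 2 then decide (4 ≤ n) && decide (n % 2 = 0) && !(decide (n = 4) && decide (q = 2))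
  else if t = 3 then decide (7 ≤ n) && decide (n % 2 = 1) && decide (q % 2 = 1)
  else decide (t ≤ 5) && decide (8 ≤ n) && decide (n % 2 = 0)

/-- `T` is a quotient of a subgroup of `GL_n(F)` by its scalars, `|F| = k`, `char F = p` -/
def ProjRep (p k n : ℕ) (T : Type) [Group T] : Prop :=
  ∃ (F : Type) (_ : Field F) (_ : Fintype F) (_ : CharP F p) (S : Subgroup (GL (Fin n) F)) (π : S →* T),
    Fintype.card F = k ∧ Function.Surjective π ∧ ∀ x : S, π x = 1 ↔ (x : GL (Fin n) F) ∈ Cfsg.Geo.scalars (Fin n) F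

/-- the model -/
def IsoCl (p t n q : ℕ) (T : Type) [Group T] : Prop :=
  ∃ (F : Type) (_ : Field F) (_ : Fintype F) (_ : CharP F p),
    (t = 0 ∧ Fintype.card F = q ∧ Nonempty (T ≃* Matrix.ProjectiveSpecialLinearGroup (Fin n) F)) ∨
    (t = 1 ∧ Fintype.card F = q ^ 2 ∧ Nonempty (T ≃* PSU n F q)) ∨
    (t = 2 ∧ Fintype.card F = q ∧ Nonempty (T ≃* PSp (n / 2) F)) ∨
    (t = 3 ∧ Fintype.card F = q ∧ Nonempty (T ≃* POmega F (quadFormOdd (n / 2) F))) ∨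
    (t = 4 ∧ Fintype.card F = q ∧ Nonempty (T ≃* POmega F (quadFormPlus (n / 2) F))) ∨
    (t = 5 ∧ Fintype.card F = q ∧ ∃ a b : F, (∀ z₁ z₂ : F, z₁ ^ 2 + a * z₁ * z₂ + b * z₂ ^ 2 = 0 → z₁ = 0 ∧ z₂ = 0) ∧
      Nonempty (T ≃* POmega F (quadFormMinus (n / 2 - 1) F a b)))

/-- the data of a classical socle -/
structure ClDat (p : ℕ) {G : Type} [Group G] (T : Subgroup G) (t n f : ℕ) : Prop where
  pos : 0 < f
  valid : validCl t n (p ^ f) = true
  iso : IsoCl p t n (p ^ f) ↥T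
  card : Nat.card T = ordCl t n (p ^ f)
  out : T.index ∣ outCl t n p f
  lmin : ∀ M : Subgroup T, M ≠ ⊤ → lminCl t n (p ^ f) ≤ M.index
  rep : ProjRep p (if t = 1 then (p ^ f) ^ 2 else p ^ f) n ↥T

/-- [SV-ClDat] -/
def BoxClDat : Prop := ∀ (G : Type) [Group G] [Finite G] (T H : Subgroup G) (m p : ℕ), LieCtx T H m p → IsCl p ↥T →
  ∃ t n f, ClDat p T t n f

end Cfsg.Agent.TH.Sv
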