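import Cfsg.Agent.TH.Sv.Chk
import Cfsg.Agent.TH.Own.Grp

/-!
# S3541: the numerical sieve, counting subgroups (helper74)

* `dc_le` : double counting;
* `sub L k` : the subgroups of order `k` of `L`; `ncard_sub_le_gb`, `ncard_sub_le`, `ncard_le_prod`.
-/

set_option autoImplicit false
set_option linter.unusedSectionVars false

namespace Cfsg.Agent.TH.Sv

open MulAction Own

/-- double counting -/
theorem dc_le {α β : Type*} {A : Set α} {B : Set β} (hA : A.Finite) (hB : B.Finite) (r : α → β → Prop) {j k : ℕ}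
    (h1 : ∀ a ∈ A, j ≤ {b ∈ B | r a b}.ncard) (h2 : ∀ b ∈ B, {a ∈ A | r a b}.ncard ≤ k) :
    A.ncard * j ≤ B.ncard * k := by
  classical
  rw [Set.ncard_eq_toFinset_card A hA, Set.ncard_eq_toFinset_card B hB]
  refine Finset.card_mul_le_card_mul r (fun a ha => (h1 a (hA.mem_toFinset.1 ha)).trans (le_of_eq ?_))
    fun b hb => le_trans (le_of_eq ?_) (h2 b (hB.mem_toFinset.1 hb))
  · rw [← Set.ncard_coe_finset]
    congr 1
    ext b
    simp
  · rw [← Set.ncard_coe_finset]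
    congr 1
    ext a
    simp

/-- a covering by `|B|` sets of size at most `k` -/
theorem cover_le {α β : Type*} {A : Set α} {B : Set β} (hA : A.Finite) (hB : B.Finite) (r : α → β → Prop) {k : ℕ}
    (h1 : ∀ a ∈ A, ∃ b ∈ B, r a b) (h2 : ∀ b ∈ B, {a ∈ A | r a b}.ncard ≤ k) : A.ncard ≤ B.ncard * k := by
  rw [← mul_one A.ncard]
  exact dc_le hA hB r (fun a ha => (Set.ncard_pos (hB.subset fun _ h => h.1)).2 (h1 a ha)) h2

theorem gb_succ' {s : ℕ} (hs : 1 ≤ s) (b a : ℕ) : gb s (b + 1) (a + 1) = gb s b (a + 1) + s ^ (b - a) * gb s b a := by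
  have h1 := gb_mul hs b a
  have h2 := Nat.one_le_pow (a + 1) s hs
  have h3 := Nat.one_le_pow (b - a) s hs
  rw [gb_succ]
  zify [h2, h3] at h1 ⊢
  linear_combination h1

variable {G : Type*} [Group G] [Finite G]

/-- the subgroups of order `k` of `L` -/
def sub (L : Subgroup G) (k : ℕ) : Set (Subgroup G) := {Q | Q ≤ L ∧ Nat.card Q = k}

theorem exists_sub {L : Subgroup G} {s a : ℕ} (hs : s.Prime) (h : s ^ a ∣ Nat.card L) : ∃ Q, Q ∈ sub L (s ^ a) := by
  have := Fact.mk hs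
  obtain ⟨Q, hQ⟩ := Sylow.exists_subgroup_card_pow_prime s h
  exact ⟨Q.map L.subtype, Subgroup.map_subtype_le _, by rw [Subgroup.card_map_of_injective L.subtype_injective, hQ]⟩

theorem ncard_diff (Q M : Subgroup G) : ((Q : Set G) \ M).ncard = Nat.card Q - Nat.card ↥(Q ⊓ M) := by
  rw [← Set.sdiff_self_inter, Set.ncard_sdiff Set.inter_subset_left, ← Subgroup.coe_inf, ← Nat.card_coe_set_eq,
    ← Nat.card_coe_set_eq]
  rfl

/-- a group of order `s ^ b` has at most `gb s b a` subgroups of order `s ^ a` -/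
theorem ncard_sub_le_gb {s : ℕ} (hs : s.Prime) (b : ℕ) {L : Subgroup G} (hL : Nat.card L = s ^ b) (a : ℕ) :
    (sub L (s ^ a)).ncard ≤ gb s b a := by
  induction b generalizing L a with
  | zero =>
    cases a with
    | zero =>
      refine (Set.ncard_le_one (Set.toFinite _)).2 fun Q hQ R hR => ?_
      rw [Subgroup.card_eq_one.1 hQ.2, Subgroup.card_eq_one.1 hR.2]
    | succ a =>
      rw [Set.eq_empty_of_forall_notMem (s := sub L (s ^ (a + 1))) fun Q hQ => ?_, Set.ncard_empty]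
      · exact Nat.zero_le _
      · have h1 := Subgroup.card_le_of_le hQ.1
        rw [hQ.2, hL] at h1
        exact absurd h1 (not_le.2 (Nat.pow_lt_pow_right hs.one_lt (Nat.succ_pos a)))
  | succ b ih =>
    cases a with
    | zero =>
      rw [gb_zero_right]
      refine (Set.ncard_le_one (Set.toFinite _)).2 fun Q hQ R hR => ?_
      rw [Subgroup.card_eq_one.1 hQ.2, Subgroup.card_eq_one.1 hR.2]
    | succ a =>
    obtain ⟨M, hM, hMc⟩ := exists_sub (L := L) (a := b) hs (hL ▸ pow_dvd_pow s (Nat.le_succ b))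
    have hML : M.relIndex L = s := by
      have h1 := card_mul_relIndex hM
      rw [hMc, hL, pow_succ] at h1
      exact Nat.eq_of_mul_eq_mul_left (pow_pos hs.pos b) h1
    let X : Set (Subgroup G) := {Q ∈ sub L (s ^ (a + 1)) | ¬ Q ≤ M}
    have h1 : ∀ Q ∈ X, Nat.card ↥(Q ⊓ M) = s ^ a := fun Q hQ => by
      have h2 := card_mul_relIndex (inf_le_left : Q ⊓ M ≤ Q)
      rw [Subgroup.inf_relIndex_left, hQ.1.2] at h2
      have h3 : M.relIndex Q ≤ s := hML ▸ Subgroup.relIndex_le_of_le_right hQ.1.1 (hML ▸ hs.ne_zero)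
      obtain ⟨i, -, hi⟩ := (Nat.dvd_prime_pow hs).1 (Dvd.intro_left _ h2)
      have h4 : i ≠ 0 := fun h => hQ.2 (Subgroup.relIndex_eq_one.1 (by rw [hi, h, pow_zero]))
      have h5 : i ≤ 1 := (Nat.pow_le_pow_iff_right hs.one_lt).1 (by rw [pow_one, ← hi]; exact h3)
      rw [hi, show i = 1 by omega, pow_one, pow_succ] at h2
      exact Nat.eq_of_mul_eq_mul_right hs.pos h2
    have h2 : X.ncard * (s ^ (a + 1) - s ^ a) ≤ (sub M (s ^ a) ×ˢ ((L : Set G) \ M)).ncard * 1 := by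
      refine dc_le (Set.toFinite _) (Set.toFinite _) (fun Q y => y.1 = Q ⊓ M ∧ y.2 ∈ Q) (fun Q hQ => ?_) fun y hy => ?_
      · refine le_trans (le_of_eq (by rw [ncard_diff, h1 Q hQ, hQ.1.2])) (?_ : ((Q : Set G) \ M).ncard ≤ _)
        exact Set.ncard_le_ncard_of_injOn (fun x => (Q ⊓ M, x))
          (fun x hx => ⟨⟨⟨inf_le_right, h1 Q hQ⟩, hQ.1.1 hx.1, hx.2⟩, rfl, hx.1⟩) fun x _ y _ h => congrArg Prod.snd h
      · have key : ∀ Q ∈ X, ∀ R ∈ X, y.1 = Q ⊓ M → y.2 ∈ Q → y.1 = R ⊓ M → y.2 ∈ R → Q ≤ R := by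
          intro Q hQ R hR e1 e2 e3 e4
          have h3 : Nat.card ↥(Q ⊓ R) ∣ s ^ (a + 1) := hQ.1.2 ▸ Subgroup.card_dvd_of_le inf_le_left
          obtain ⟨i, hi, h4⟩ := (Nat.dvd_prime_pow hs).1 h3
          have h5 : y.1 ≤ Q ⊓ R := le_inf (e1 ▸ inf_le_left) (e3 ▸ inf_le_left)
          have h6 : a < i := by
            by_contra h6
            have h7 := Subgroup.eq_of_le_of_card_ge h5 (by
              rw [h4, hy.1.2]; exact Nat.pow_le_pow_right hs.pos (not_lt.1 h6))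
            exact hy.2.2 (hy.1.1 (h7 ▸ ⟨e2, e4⟩))
          rw [← Subgroup.eq_of_le_of_card_ge (inf_le_left : Q ⊓ R ≤ Q)
            (by rw [h4, hQ.1.2]; exact Nat.pow_le_pow_right hs.pos h6)]
          exact inf_le_right
        exact (Set.ncard_le_one (Set.toFinite _)).2 fun Q hQ R hR =>
          le_antisymm (key Q hQ.1 R hR.1 hQ.2.1 hQ.2.2 hR.2.1 hR.2.2) (key R hR.1 Q hQ.1 hR.2.1 hR.2.2 hQ.2.1 hQ.2.2)
    rw [mul_one, Set.ncard_prod, ncard_diff, inf_eq_right.2 hM, hL, hMc] at h2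
    have h3 : X.ncard ≤ s ^ (b - a) * gb s b a := by
      have h4 : 0 < s ^ (a + 1) - s ^ a := Nat.sub_pos_of_lt (Nat.pow_lt_pow_right hs.one_lt (Nat.lt_succ_self a))
      refine Nat.le_of_mul_le_mul_right ((h2.trans (Nat.mul_le_mul_right _ (ih hMc a))).trans ?_) h4
      rcases lt_or_ge b a with h | h
      · rw [gb_eq_zero s h]
        simp
      · obtain ⟨c, rfl⟩ := Nat.exists_eq_add_of_le h
        rw [Nat.add_sub_cancel_left, mul_comm (s ^ c), mul_assoc, Nat.mul_sub (s ^ c), ← pow_add, ← pow_add,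
          show c + (a + 1) = a + c + 1 by omega, add_comm c a]
    have h4 : sub L (s ^ (a + 1)) ⊆ sub M (s ^ (a + 1)) ∪ X := fun Q hQ => by
      by_cases h : Q ≤ M
      · exact Or.inl ⟨h, hQ.2⟩
      · exact Or.inr ⟨hQ, h⟩
    rw [gb_succ' hs.pos]
    exact ((Set.ncard_le_ncard h4).trans (Set.ncard_union_le _ _)).trans (Nat.add_le_add (ih hMc _) h3)

theorem ncard_syl_le (L : Subgroup G) {s : ℕ} (hs : s.Prime) :
    (sub L (s ^ (Nat.card L).factorization s)).ncard ≤ Nat.card (Sylow s L) := by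
  have := Fact.mk hs
  rw [← Nat.card_coe_set_eq]
  refine Nat.card_le_card_of_injective (fun Q => Sylow.ofCard (Q.1.subgroupOf L)
    ((Nat.card_congr (Subgroup.subgroupOfEquivOfLe Q.2.1).toEquiv).trans Q.2.2)) fun Q R h => Subtype.ext ?_
  have h1 : Q.1.subgroupOf L = R.1.subgroupOf L := congrArg (fun P : Sylow s L => (P : Subgroup L)) h
  rw [← Subgroup.map_subgroupOf_eq_of_le Q.2.1, h1, Subgroup.map_subgroupOf_eq_of_le R.2.1]

theorem sub.isP {L Q : Subgroup G} {s a : ℕ} (h : Q ∈ sub L (s ^ a)) : IsPGroup s Q := IsPGroup.of_card h.2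

theorem exists_le_syl {L Q : Subgroup G} {s : ℕ} (hs : s.Prime) (hQ : IsPGroup s Q) (h : Q ≤ L) :
    ∃ P ∈ sub L (s ^ (Nat.card L).factorization s), Q ≤ P := by
  have := Fact.mk hs
  obtain ⟨P, hP⟩ := (hQ.comap_subtype (K := L)).exists_le_sylow
  refine ⟨(P : Subgroup L).map L.subtype, ⟨Subgroup.map_subtype_le _, ?_⟩, fun x hx => ⟨⟨x, h hx⟩, hP hx, rfl⟩⟩
  rw [Subgroup.card_map_of_injective L.subtype_injective, P.card_eq_multiplicity]

/-- the number of subgroups of order `s ^ a` -/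
theorem ncard_sub_le (L : Subgroup G) {s : ℕ} (hs : s.Prime) (a : ℕ) :
    (sub L (s ^ a)).ncard ≤ gb s ((Nat.card L).factorization s) a * Nat.card (Sylow s L) := by
  rw [mul_comm]
  refine (cover_le (B := sub L (s ^ (Nat.card L).factorization s)) (Set.toFinite _) (Set.toFinite _) (fun Q P => Q ≤ P)
    (fun Q hQ => exists_le_syl hs (sub.isP hQ) hQ.1) fun P hP => le_trans (Set.ncard_le_ncard fun Q hQ => ?_)
      (ncard_sub_le_gb hs _ hP.2 a)).trans (Nat.mul_le_mul_right _ (ncard_syl_le L hs))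
  exact ⟨hQ.2, hQ.1.2⟩

theorem sylNum (L : Type*) [Group L] [Finite L] : SylNum (Nat.card L) fun s => Nat.card (Sylow s L) := fun s hs => by
  have := Fact.mk hs
  obtain ⟨P⟩ : Nonempty (Sylow s L) := inferInstance
  refine ⟨?_, ?_⟩
  · have h1 := (P : Subgroup L).card_mul_index
    rw [P.card_eq_multiplicity] at h1
    rw [Nat.div_eq_of_eq_mul_right (pow_pos hs.pos _) h1.symm]
    exact P.card_dvd_index
  · exact Eq.trans (card_sylow_modEq_one s L) (Nat.mod_eq_of_lt hs.one_lt)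

/-- a subgroup is generated by one Sylow subgroup for each prime -/
theorem ncard_le_prod {H P : Subgroup G} {m : ℕ} (𝒦 : Set (Subgroup G)) (π : Finset ℕ) (hπ : ∀ t ∈ π, t.Prime)
    (h : ∀ K ∈ 𝒦, K ≤ H ∧ Nat.card K = m ∧ P ≤ K)
    (hP : ∀ t, t.Prime → t ∣ m → t ∈ π ∨ t ^ m.factorization t ∣ Nat.card P) :
    𝒦.ncard ≤ ∏ t ∈ π, (sub H (t ^ m.factorization t)).ncard := by
  have h1 : ∀ (K : 𝒦) (t : π), ∃ Q, Q ∈ sub K.1 (t.1 ^ m.factorization t) := fun K t =>
    exists_sub (hπ t t.2) (by rw [(h K K.2).2.1]; exact Nat.ordProj_dvd m t)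
  choose Q hQ using h1
  have h2 : ∀ K : 𝒦, P ⊔ ⨆ t, Q K t = K.1 := fun K => by
    have h3 : P ⊔ ⨆ t, Q K t ≤ K.1 := sup_le (h K K.2).2.2 (iSup_le fun t => (hQ K t).1)
    refine Subgroup.eq_of_le_of_card_ge h3 (Nat.le_of_dvd Nat.card_pos ?_)
    have hm : m ≠ 0 := by rw [← (h K K.2).2.1]; exact Nat.card_pos.ne'
    rw [(h K K.2).2.1, ← Nat.factorization_prime_le_iff_dvd hm Nat.card_pos.ne']
    intro t ht
    rw [← ht.pow_dvd_iff_le_factorization Nat.card_pos.ne']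
    by_cases h4 : t ∣ m
    · rcases hP t ht h4 with h5 | h5
      · rw [← (hQ K ⟨t, h5⟩).2]
        exact Subgroup.card_dvd_of_le (le_sup_of_le_right (le_iSup (Q K) ⟨t, h5⟩))
      · exact h5.trans (Subgroup.card_dvd_of_le le_sup_left)
    · rw [Nat.factorization_eq_zero_of_not_dvd h4, pow_zero]
      exact one_dvd _
  rw [← Nat.card_coe_set_eq, ← Finset.prod_coe_sort π,
    Finset.prod_congr rfl fun (t : π) _ => (Nat.card_coe_set_eq (sub H (t.1 ^ m.factorization t))).symm, ← Nat.card_pi]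
  refine Nat.card_le_card_of_injective (fun K t => ⟨Q K t, (hQ K t).1.trans (h K K.2).1, (hQ K t).2⟩)
    fun K K' e => Subtype.ext ?_
  have h3 : Q K = Q K' := funext fun t => congrArg Subtype.val (congrFun e t)
  rw [← h2 K, ← h2 K', h3]

end Cfsg.Agent.TH.Sv
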